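import Cfsg.Agent.GolayOrbits.Octad
import Cfsg.Agent.Mathieu.OctadPointwise

/-!
The action of an octad stabiliser on the octad: the alternating group, split by the stabiliser of a
further point.
-/

set_option autoImplicit false

namespace CfsgLib.GolayOrbits

open Cfsg CfsgLib.Mathieu CfsgLib.GolayConfig
open scoped Pointwise

variable (o : Finset GolayPt)

/-- The stabiliser of a set of points. -/
abbrev stabO : Subgroup (Equiv.Perm GolayPt) :=
  M24 ⊓ MulAction.stabilizer (Equiv.Perm GolayPt) o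

theorem apply_mem_iff {g : Equiv.Perm GolayPt} (h : g • o = o) (x : GolayPt) :
    g x ∈ o ↔ x ∈ o := by
  conv_lhs => rw [← h]
  exact smul_mem_iff g x o

/-- Restriction to the set. -/
def restrictO : stabO o →* Equiv.Perm ↥o where
  toFun g := g.1.subtypePerm (apply_mem_iff o g.2.2)
  map_one' := Equiv.ext fun _ => rfl
  map_mul' _ _ := Equiv.ext fun _ => rfl

theorem restrictO_eq_one {g : stabO o} :
    restrictO o g = 1 ↔ ∀ x ∈ o, (g : Equiv.Perm GolayPt) x = x :=
  ⟨fun h x hx => (congrArg Subtype.val (DFunLike.congr_fun h ⟨x, hx⟩) :),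
    fun h => Equiv.ext fun x => Subtype.ext (h x x.2)⟩

variable {o} (ho : o ∈ octads)
include ho

theorem restrictO_range : (restrictO o).range = alternatingGroup ↥o := by
  classical
  refine Equiv.Perm.eq_alternatingGroup_of_index_eq_two ?_
  have hker : Nat.card (restrictO o).ker = 16 := by
    rw [← (octad_pointwise_spec ho).1]
    refine Nat.card_congr ⟨fun g => ⟨g.1.1, g.1.2.1, ?_⟩, fun g => ⟨⟨g.1, g.2.1, ?_⟩, ?_⟩,
      fun _ => rfl, fun _ => rfl⟩
    · exact (mem_fixingSubgroup_iff _).2 fun x hx => (restrictO_eq_one o).1 g.2 x hx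
    · refine Finset.ext fun x => ?_
      have hfix := (mem_fixingSubgroup_iff _).1 g.2.2
      refine ⟨fun h => ?_, fun h => ?_⟩
      · obtain ⟨y, hy, rfl⟩ := Finset.mem_smul_finset.1 h
        exact (hfix y hy).symm ▸ hy
      · exact Finset.mem_smul_finset.2 ⟨x, h, hfix x h⟩
    · exact (restrictO_eq_one o).2 fun x hx => (mem_fixingSubgroup_iff _).1 g.2.2 x hx
  have h1 := Subgroup.index_mul_card (restrictO o).ker
  rw [Subgroup.index_ker, hker, card_stab_octad ho] at h1
  have h2 := Subgroup.index_mul_card (restrictO o).range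
  have h3 : Nat.card (Equiv.Perm ↥o) = 40320 := by
    rw [Nat.card_eq_fintype_card, Fintype.card_perm, Fintype.card_coe, ho.2]; rfl
  rw [h3] at h2
  have h4 : Nat.card (restrictO o).range = 20160 := by omega
  rw [h4] at h2
  omega

theorem fixed_octad_point {p : GolayPt} (hp : p ∉ o) {g : Equiv.Perm GolayPt} (hg : g ∈ M24)
    (hfix : ∀ x ∈ o, g x = x) (hgp : g p = p) : g = 1 := by
  have hB : setOf24 m24BaseOctad ∈ octads :=
    setOf24_mem_wordsOfWeight (by decide +kernel) (by decide +kernel)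
  have hb : m24Base.getD 6 none ∉ setOf24 m24BaseOctad := by decide +kernel
  obtain ⟨α, hα, hαp, rfl⟩ := exists_point_not_octad ho hp
  obtain ⟨β, hβ, hβp, hβo⟩ := exists_point_not_octad hB hb
  set γ := α * β⁻¹ with hγ
  have hh : γ⁻¹ * g * γ ∈ M24 :=
    mul_mem (mul_mem (inv_mem (mul_mem hα (inv_mem hβ))) hg) (mul_mem hα (inv_mem hβ))
  have hγo : ∀ x ∈ setOf24 m24BaseOctad, γ x ∈ α • setOf24 cOctN := fun x hx => by
    rw [show γ x = α (β⁻¹ x) from rfl, smul_mem_iff, ← smul_mem_iff β, perm_apply_inv, hβo]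
    exact hx
  have key : γ⁻¹ * g * γ = 1 := by
    refine M24_ext hh (one_mem _) fun x hx => ?_
    show γ⁻¹ (g (γ x)) = x
    have hx' : x ∈ setOf24 m24BaseOctad ∨ x = m24Base.getD 6 none := by
      revert x; decide +kernel
    rcases hx' with hx' | rfl
    · rw [hfix _ (hγo x hx'), perm_inv_apply]
    · rw [show γ (m24Base.getD 6 none) = p by
        rw [show γ (m24Base.getD 6 none) = α (β⁻¹ (m24Base.getD 6 none)) from rfl, ← hβp,
          perm_inv_apply, hαp], hgp, ← show γ (m24Base.getD 6 none) = p by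
        rw [show γ (m24Base.getD 6 none) = α (β⁻¹ (m24Base.getD 6 none)) from rfl, ← hβp,
          perm_inv_apply, hαp], perm_inv_apply]
  calc g = γ * (γ⁻¹ * g * γ) * γ⁻¹ := by group
    _ = 1 := by rw [key]; group

/-- The stabiliser of the octad is transitive on the points outside it. -/
theorem moves_outside {p q : GolayPt} (hp : p ∉ o) (hq : q ∉ o) :
    ∃ g ∈ stabO o, g p = q := by
  obtain ⟨α, hα, hαp, hαo⟩ := exists_point_not_octad ho hp
  obtain ⟨β, hβ, hβq, hβo⟩ := exists_point_not_octad ho hq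
  refine ⟨β * α⁻¹, ⟨(mul_mem hβ (inv_mem hα) : β * α⁻¹ ∈ M24), ?_⟩, ?_⟩
  · show (β * α⁻¹) • o = o
    rw [mul_smul, ← hαo, inv_smul_smul, hαo]
    exact hβo
  · show β (α⁻¹ p) = q
    rw [← hαp, perm_inv_apply, hβq]

theorem card_stabO_point {p : GolayPt} (hp : p ∉ o) :
    Nat.card ↥(stabO o ⊓ MulAction.stabilizer (Equiv.Perm GolayPt) p) = 20160 := by
  have horb : MulAction.orbit (stabO o) p = (↑(oᶜ) : Set GolayPt) := by
    ext q
    rw [Finset.mem_coe, Finset.mem_compl]
    constructor
    · rintro ⟨g, rfl⟩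
      exact fun h => hp ((apply_mem_iff o g.2.2 p).1 h)
    · intro hq
      obtain ⟨g, hg, e⟩ := moves_outside ho hp hq
      exact ⟨⟨g, hg⟩, e⟩
  have h := Subgroup.index_mul_card (MulAction.stabilizer (stabO o) p)
  rw [MulAction.index_stabilizer, horb, Set.ncard_coe_finset, Finset.card_compl, ho.2,
    show Fintype.card GolayPt = 24 by simp [ZMod.card],
    Nat.card_congr (stabilizerInfEquiv (stabO o) p).toEquiv, card_stab_octad ho] at h
  omega

/-- A complement of the pointwise stabiliser, isomorphic to the alternating group. -/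
theorem octad_split {p : GolayPt} (hp : p ∉ o) :
    (M24 ⊓ fixingSubgroup (Equiv.Perm GolayPt) (o : Set GolayPt)) ⊓
        (M24 ⊓ MulAction.stabilizer (Equiv.Perm GolayPt) o ⊓
          MulAction.stabilizer (Equiv.Perm GolayPt) p) = ⊥ ∧
      (M24 ⊓ fixingSubgroup (Equiv.Perm GolayPt) (o : Set GolayPt)) ⊔
        (M24 ⊓ MulAction.stabilizer (Equiv.Perm GolayPt) o ⊓
          MulAction.stabilizer (Equiv.Perm GolayPt) p) =
        M24 ⊓ MulAction.stabilizer (Equiv.Perm GolayPt) o ∧
      Nonempty (↥(M24 ⊓ MulAction.stabilizer (Equiv.Perm GolayPt) o ⊓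
          MulAction.stabilizer (Equiv.Perm GolayPt) p) ≃* alternatingGroup (Fin 8)) := by
  classical
  set H := stabO o ⊓ MulAction.stabilizer (Equiv.Perm GolayPt) p with hH
  let φ : H →* Equiv.Perm ↥o := (restrictO o).comp (Subgroup.inclusion inf_le_left)
  have hinj : Function.Injective φ := by
    refine (injective_iff_map_eq_one φ).2 fun g hg => Subtype.ext ?_
    exact fixed_octad_point ho hp g.2.1.1 ((restrictO_eq_one o).1 hg) g.2.2
  have hrange : φ.range = alternatingGroup ↥o := by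
    refine Subgroup.eq_of_le_of_card_ge ?_ ?_
    · rw [← restrictO_range ho]
      rintro _ ⟨g, rfl⟩
      exact ⟨_, rfl⟩
    · rw [← Nat.card_congr (MonoidHom.ofInjective hinj).toEquiv, card_stabO_point ho hp]
      haveI : Nontrivial ↥o := Fintype.one_lt_card_iff_nontrivial.1 (by
        rw [Fintype.card_coe, ho.2]; norm_num)
      have h1 := Subgroup.index_mul_card (alternatingGroup ↥o)
      rw [alternatingGroup.index_eq_two, Nat.card_eq_fintype_card (α := Equiv.Perm ↥o),
        Fintype.card_perm, Fintype.card_coe, ho.2] at h1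
      have : Nat.factorial 8 = 40320 := rfl
      omega
  refine ⟨?_, le_antisymm (sup_le (fun g hg => ?_) inf_le_left) (fun g hg => ?_), ?_⟩
  · refine (Subgroup.eq_bot_iff_forall _).2 fun g hg => ?_
    exact fixed_octad_point ho hp hg.1.1 ((mem_fixingSubgroup_iff _).1 hg.1.2) hg.2.2
  · refine ⟨hg.1, Finset.ext fun x => ?_⟩
    have hfix := (mem_fixingSubgroup_iff _).1 hg.2
    refine ⟨fun h => ?_, fun h => Finset.mem_smul_finset.2 ⟨x, h, hfix x h⟩⟩
    obtain ⟨y, hy, rfl⟩ := Finset.mem_smul_finset.1 h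
    exact (hfix y hy).symm ▸ hy
  · obtain ⟨h, hh⟩ : restrictO o ⟨g, hg⟩ ∈ φ.range := by
      rw [hrange, ← restrictO_range ho]; exact ⟨_, rfl⟩
    have hker : restrictO o (⟨g, hg⟩ * (Subgroup.inclusion inf_le_left h)⁻¹) = 1 := by
      rw [map_mul, map_inv, show restrictO o (Subgroup.inclusion inf_le_left h) = φ h from rfl, hh,
        mul_inv_cancel]
    rw [show g = g * (h : Equiv.Perm GolayPt)⁻¹ * (h : Equiv.Perm GolayPt) by group]
    refine Subgroup.mul_mem_sup ⟨(mul_mem hg.1 (inv_mem h.2.1.1) : g * (h : Equiv.Perm GolayPt)⁻¹ ∈ M24), ?_⟩ h.2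
    exact (mem_fixingSubgroup_iff _).2 ((restrictO_eq_one o).1 hker)
  · exact ⟨((MonoidHom.ofInjective hinj).trans (MulEquiv.subgroupCongr hrange)).trans
      ((o.equivFinOfCardEq ho.2).altCongrHom)⟩

end CfsgLib.GolayOrbits
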