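import Cfsg.Agent.GolayOrbits.Index
import Mathlib.GroupTheory.GroupAction.Primitive

/-!
Orbits of a stabiliser from classes of a key, and maximality of a stabiliser from the sizes of those
orbits: the orbit of an intermediate subgroup is a union of them whose size divides the index.
-/

set_option autoImplicit false

namespace CfsgLib.GolayOrbits

open Cfsg CfsgLib.Mathieu CfsgLib.GolayConfig
open scoped Pointwise

/-- The points of `O` whose key is among the first components of `I` are counted by the second ones. -/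
theorem ncard_key_mem {Ω : Type*} {O : Set Ω} (hO : O.Finite) (key : Ω → ℕ) :
    ∀ (I : List (ℕ × ℕ)), (I.map Prod.fst).Nodup →
      (∀ c ∈ I, {y | y ∈ O ∧ key y = c.1}.ncard = c.2) →
      {y | y ∈ O ∧ key y ∈ I.map Prod.fst}.ncard = (I.map Prod.snd).sum
  | [], _, _ => by simp
  | c :: I, hnd, hc => by
    rw [List.map_cons, List.nodup_cons] at hnd
    have hsplit : {y | y ∈ O ∧ key y ∈ (c :: I).map Prod.fst} =
        {y | y ∈ O ∧ key y = c.1} ∪ {y | y ∈ O ∧ key y ∈ I.map Prod.fst} := by
      ext y
      simp only [Set.mem_union, Set.mem_ofPred_eq, List.map_cons, List.mem_cons]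
      tauto
    rw [hsplit, Set.ncard_union_eq (hs := hO.subset fun y hy => hy.1)
      (ht := hO.subset fun y hy => hy.1), hc c (List.mem_cons_self ..),
      ncard_key_mem hO key I hnd.2 (fun d hd => hc d (List.mem_cons_of_mem _ hd)), List.map_cons,
      List.sum_cons]
    · rw [Set.disjoint_left]
      rintro y ⟨-, h1⟩ ⟨-, h2⟩
      exact hnd.1 (h1 ▸ h2)

/-- A stabiliser is maximal when no union of its orbits containing the point has size dividing
the index, apart from the point alone and everything. -/
theorem isCoatom_stabilizer {G Ω : Type*} [Group G] [Finite G] [MulAction G Ω] (x : Ω)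
    (key : Ω → ℕ) (sizes : List (ℕ × ℕ)) (hnd : (sizes.map Prod.fst).Nodup)
    (hmoves : ∀ y ∈ MulAction.orbit G x, ∀ z ∈ MulAction.orbit G x, key y = key z →
      z ∈ MulAction.orbit (MulAction.stabilizer G x) y)
    (hone : ∀ y ∈ MulAction.orbit G x, key y = key x → y = x)
    (hkeys : ∀ y ∈ MulAction.orbit G x, key y ∈ sizes.map Prod.fst)
    (hsize : ∀ c ∈ sizes, {y | y ∈ MulAction.orbit G x ∧ key y = c.1}.ncard = c.2)
    (hlen : 1 < (sizes.map Prod.snd).sum)
    (hcheck : ∀ I ∈ sizes.sublists, (I.map Prod.snd).sum ∣ (sizes.map Prod.snd).sum →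
      I.length ≤ 1 ∨ I.length = sizes.length) :
    IsCoatom (MulAction.stabilizer G x) := by
  classical
  set O := MulAction.orbit G x with hO
  have hfin : O.Finite := Set.finite_range _
  have hOcard : O.ncard = (sizes.map Prod.snd).sum := by
    rw [← ncard_key_mem hfin key sizes hnd hsize]
    exact congrArg Set.ncard (Set.ext fun y => ⟨fun h => ⟨h, hkeys y h⟩, fun h => h.1⟩)
  have hindex : (MulAction.stabilizer G x).index = (sizes.map Prod.snd).sum := by
    rw [MulAction.index_stabilizer, ← hO, hOcard]
  refine ⟨fun htop => ?_, fun K hK => ?_⟩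
  · rw [htop, Subgroup.index_top] at hindex
    omega
  · obtain ⟨hle, g, hgK, hg⟩ := SetLike.lt_iff_le_and_exists.1 hK
    set S := MulAction.orbit K x with hS
    have hSO : S ⊆ O := by rintro _ ⟨k, rfl⟩; exact ⟨k.1, rfl⟩
    have hclosed : ∀ y ∈ S, ∀ z ∈ O, key y = key z → z ∈ S := by
      rintro y ⟨k, rfl⟩ z hz hk
      obtain ⟨h, rfl⟩ := hmoves _ ⟨k.1, rfl⟩ z hz hk
      exact ⟨⟨h.1 * k.1, mul_mem (hle h.2) k.2⟩, mul_smul _ _ _⟩
    let P : ℕ × ℕ → Bool := fun c => decide (∃ y ∈ S, key y = c.1)
    set I := sizes.filter P with hI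
    have hIsub : I ∈ sizes.sublists := List.mem_sublists.2 List.filter_sublist
    have hIS : S = {y | y ∈ O ∧ key y ∈ I.map Prod.fst} := by
      ext y
      simp only [Set.mem_ofPred_eq, List.mem_map, hI, List.mem_filter, P, decide_eq_true_eq]
      constructor
      · intro hy
        obtain ⟨c, hc, he⟩ := List.mem_map.1 (hkeys y (hSO hy))
        exact ⟨hSO hy, c, ⟨hc, y, hy, he.symm⟩, he⟩
      · rintro ⟨hy, c, ⟨-, z, hz, hzk⟩, he⟩
        exact hclosed z hz y hy (hzk.trans he)
    have hInd : (I.map Prod.fst).Nodup := hnd.sublist (List.filter_sublist.map _)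
    have hScard : S.ncard = (I.map Prod.snd).sum := by
      rw [hIS]
      exact ncard_key_mem hfin key I hInd fun c hc => hsize c (List.mem_of_mem_filter hc)
    have hdvd : (I.map Prod.snd).sum ∣ (sizes.map Prod.snd).sum := by
      have h1 : MulAction.stabilizer K x = (MulAction.stabilizer G x).subgroupOf K := by
        ext k; rfl
      have h2 := MulAction.index_stabilizer (G := K) (x := x)
      rw [h1, ← Subgroup.relIndex, ← hS, hScard] at h2
      rw [← h2, ← hindex]
      exact Dvd.intro _ (Subgroup.relIndex_mul_index hle)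
    rcases hcheck I hIsub hdvd with h | h
    · exfalso
      apply hg
      have hgx : g • x ∈ S := ⟨⟨g, hgK⟩, rfl⟩
      refine MulAction.mem_stabilizer_iff.2 (hone _ (hSO hgx) ?_)
      have hx : x ∈ S := MulAction.mem_orbit_self x
      rw [hIS] at hx hgx
      obtain ⟨c, hc, e1⟩ := List.mem_map.1 hx.2
      obtain ⟨d, hd, e2⟩ := List.mem_map.1 hgx.2
      match hI' : I, h, hc, hd with
      | [_], _, hc, hd =>
        rw [List.mem_singleton] at hc hd
        rw [← e1, ← e2, hc, hd]
    · have hIall : I = sizes := List.Sublist.eq_of_length List.filter_sublist h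
      refine eq_top_iff.2 fun a _ => ?_
      have ha : a • x ∈ S := by
        rw [hIS, hIall]
        exact ⟨⟨a, rfl⟩, hkeys _ ⟨a, rfl⟩⟩
      obtain ⟨k, hk⟩ := ha
      have : k.1⁻¹ * a ∈ MulAction.stabilizer G x := by
        rw [MulAction.mem_stabilizer_iff, mul_smul, ← show k.1 • x = a • x from hk, inv_smul_smul]
      simpa using mul_mem k.2 (hle this)

end CfsgLib.GolayOrbits
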