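import Cfsg.Agent.GolayOrbits.Stab

/-!
The stabiliser of a dodecad, and of a dodecad with its complement, acting on the dodecads.
-/

set_option autoImplicit false

namespace CfsgLib.GolayOrbits

open Cfsg CfsgLib.Mathieu CfsgLib.GolayConfig
open scoped Pointwise

/-- Test for a dodecad. -/
def isDod (M : ℕ) : Bool := wt M == 12

theorem isDod_maskOf {d : Finset GolayPt} (h : d ∈ dodecads) : isDod (maskOf d) = true := by
  rw [isDod, beq_iff_eq, wt_maskOf]; exact h.2

theorem dod_classes_ok : (List.range 4096).all (fun m => !isDod (codeMask m) ||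
      (dodStepsClasses.any (fun c => wt (cD &&& c.1) == wt (cD &&& codeMask m)) &&
        dodStepsClasses.all (fun c => !(wt (cD &&& c.1) == wt (cD &&& codeMask m)) ||
          (reachCode gM12 c.2 (2 ^ (c.1 % 4096))).testBit m))) = true := by
  decide +kernel

theorem moves_H12_dod {d d' : Finset GolayPt} (hd : d ∈ dodecads) (hd' : d' ∈ dodecads)
    (h : (setOf24 cD ∩ d).card = (setOf24 cD ∩ d').card) : Moves H12 d d' :=
  moves_classes gens12 dodStepsClasses isDod (fun M => wt (cD &&& M)) (by decide +kernel)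
    dod_classes_ok hd.1 hd'.1 (isDod_maskOf hd) (isDod_maskOf hd')
    (by simp only [wt_and_maskOf]; exact h)

/-- Two dodecads meeting a dodecad equally are moved into each other by its stabiliser. -/
theorem exists_dodecad_stab {d d' d'' : Finset GolayPt} (hd : d ∈ dodecads) (hd' : d' ∈ dodecads)
    (hd'' : d'' ∈ dodecads) (h : (d ∩ d').card = (d ∩ d'').card) :
    ∃ g : Equiv.Perm GolayPt, g ∈ M24 ∧ g • d = d ∧ g • d' = d'' := by
  obtain ⟨σ, hσ, rfl⟩ := exists_dodecad hd
  have hm := moves_H12_dod (smul_inv_mem_dodecads hσ hd') (smul_inv_mem_dodecads hσ hd'')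
    (by rw [← card_smul_inter σ, smul_inv_smul, ← card_smul_inter σ (setOf24 cD) (σ⁻¹ • d''),
      smul_inv_smul]; exact h)
  obtain ⟨τ, hτ, e⟩ := moves_conj hm
  exact ⟨σ * τ * σ⁻¹, mul_mem (mul_mem hσ hτ.1) (inv_mem hσ), conj_fix rfl hτ.2, e⟩

/-! ### A dodecad with its complement -/

/-- The pair formed by a dodecad and its complement. -/
def dPair (d : Finset GolayPt) : Finset (Finset GolayPt) := {d, dᶜ}

theorem dPair_compl (d : Finset GolayPt) : dPair dᶜ = dPair d := by
  rw [dPair, dPair, compl_compl, Finset.pair_comm]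

theorem smul_dPair (σ : Equiv.Perm GolayPt) (d : Finset GolayPt) :
    σ • dPair d = dPair (σ • d) := by
  have hc : σ • dᶜ = (σ • d)ᶜ := by
    ext x
    rw [Finset.mem_compl, ← perm_apply_inv σ x, smul_mem_iff, smul_mem_iff, Finset.mem_compl]
  rw [dPair, dPair, Finset.smul_finset_insert, Finset.smul_finset_singleton, hc]

theorem compl_mem_dodecads {d : Finset GolayPt} (hd : d ∈ dodecads) : dᶜ ∈ dodecads :=
  ⟨supports_compl hd.1, by rw [Finset.card_compl, hd.2]; simp [ZMod.card]⟩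

/-- The complement of the standard dodecad. -/
def cDc : ℕ := 16436384

theorem setOf24_cDc : setOf24 cDc = (setOf24 cD)ᶜ := by decide +kernel

/-- The stabiliser of the standard dodecad with its complement. -/
def HDP : Subgroup (Equiv.Perm GolayPt) := cut M24 famCoding [cD, cDc]

theorem famDec_dPair : famCoding.dec [cD, cDc] = dPair (setOf24 cD) := by
  show ([cD, cDc].map setOf24).toFinset = _
  rw [dPair, ← setOf24_cDc]
  simp

theorem gensHDP : ∀ t ∈ gDPair, InGroup enc HDP t :=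
  inGroup_of_checks (inGroup_of_isM24 (by decide +kernel)) (by decide +kernel)

/-- The smaller intersection with the standard pair. -/
def dpKeyM (M : ℕ) : ℕ := min (wt (cD &&& M)) (12 - wt (cD &&& M))

theorem dpair_classes_ok : (List.range 4096).all (fun m => !isDod (codeMask m) ||
      (dPairStepsClasses.any (fun c => dpKeyM c.1 == dpKeyM (codeMask m)) &&
        dPairStepsClasses.all (fun c => !(dpKeyM c.1 == dpKeyM (codeMask m)) ||
          (reachCode gDPair c.2 (2 ^ (c.1 % 4096))).testBit m))) = true := by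
  decide +kernel

theorem meetSq_dPair {d : Finset GolayPt} (hd : d ∈ dodecads) :
    meetSq (dPair (setOf24 cD)) (dPair d) =
      2 * ((setOf24 cD ∩ d).card ^ 2 + (12 - (setOf24 cD ∩ d).card) ^ 2) := by
  have hne : ∀ s : Finset GolayPt, s ≠ sᶜ := fun s h => by
    have hn : (none : GolayPt) ∈ s ↔ (none : GolayPt) ∈ sᶜ := by rw [← h]
    rw [Finset.mem_compl] at hn
    tauto
  set D := setOf24 cD with hD
  have hD12 : D.card = 12 := cD_mem.2
  have e1 : (D ∩ dᶜ).card = 12 - (D ∩ d).card := by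
    rw [← Finset.sdiff_eq_inter_compl, Finset.card_sdiff, hD12, Finset.inter_comm]
  have e2 : (Dᶜ ∩ d).card = 12 - (D ∩ d).card := by
    rw [Finset.inter_comm, ← Finset.sdiff_eq_inter_compl, Finset.card_sdiff, hd.2]
  have e3 : (Dᶜ ∩ dᶜ).card = (D ∩ d).card := by
    have h1 := Finset.card_union_add_card_inter D d
    have h2 := Finset.card_le_card (Finset.inter_subset_left : D ∩ d ⊆ D)
    have h3 : (Dᶜ ∩ dᶜ).card = 24 - (D ∪ d).card := by
      rw [← Finset.compl_union, Finset.card_compl]; simp [ZMod.card]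
    rw [h3, hd.2, hD12] at *
    omega
  rw [meetSq, dPair, dPair, Finset.sum_pair (hne D), Finset.sum_pair (hne d), Finset.sum_pair (hne d),
    e1, e2, e3]
  ring

theorem dpKey_eq {a b : ℕ} (ha : a ≤ 12) (hb : b ≤ 12)
    (h : 2 * (a ^ 2 + (12 - a) ^ 2) = 2 * (b ^ 2 + (12 - b) ^ 2)) :
    min a (12 - a) = min b (12 - b) := by
  have key : ∀ a ∈ List.range 13, ∀ b ∈ List.range 13,
      2 * (a ^ 2 + (12 - a) ^ 2) = 2 * (b ^ 2 + (12 - b) ^ 2) → min a (12 - a) = min b (12 - b) := by
    decide +kernel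
  exact key a (List.mem_range.2 (by omega)) b (List.mem_range.2 (by omega)) h

theorem dpairs_orbit : MulAction.orbit ↥M24 (dPair (setOf24 cD)) = dPair '' dodecads := by
  ext F
  constructor
  · rintro ⟨g, rfl⟩
    exact ⟨(g : Equiv.Perm GolayPt) • setOf24 cD, (smul_mem_wordsOfWeight_iff g.2 12 _).2 cD_mem,
      (smul_dPair _ _).symm⟩
  · rintro ⟨d, hd, rfl⟩
    obtain ⟨σ, hσ, rfl⟩ := exists_dodecad hd
    exact ⟨⟨σ, hσ⟩, smul_dPair σ _⟩

theorem moves_HDP {d d' : Finset GolayPt} (hd : d ∈ dodecads) (hd' : d' ∈ dodecads)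
    (h : meetSq (dPair (setOf24 cD)) (dPair d) = meetSq (dPair (setOf24 cD)) (dPair d')) :
    Moves (M24 ⊓ MulAction.stabilizer (Equiv.Perm GolayPt) (dPair (setOf24 cD)))
      (dPair d) (dPair d') := by
  rw [meetSq_dPair hd, meetSq_dPair hd'] at h
  have hle : ∀ s : Finset GolayPt, (setOf24 cD ∩ s).card ≤ 12 := fun s =>
    (Finset.card_le_card Finset.inter_subset_left).trans cD_mem.2.le
  have hk := dpKey_eq (hle d) (hle d') h
  obtain ⟨σ, hσ, e⟩ := moves_classes gensHDP dPairStepsClasses isDod dpKeyM (by decide +kernel)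
    dpair_classes_ok hd.1 hd'.1 (isDod_maskOf hd) (isDod_maskOf hd')
    (by simp only [dpKeyM, wt_and_maskOf]; exact hk)
  refine ⟨σ, ?_, by rw [smul_dPair, e]⟩
  rw [← famDec_dPair]
  exact hσ

/-- The class sizes: one representative of each pair holds the extra point. -/
theorem ncard_dpair_class (v n : ℕ)
    (hn : (codeSel fun M => isDod M && hasPt 23 M &&
      2 * (wt (cD &&& M) ^ 2 + (12 - wt (cD &&& M)) ^ 2) == v).length = n) :
    {F | F ∈ dPair '' dodecads ∧ meetSq (dPair (setOf24 cD)) F = v}.ncard = n := by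
  have e : {F | F ∈ dPair '' dodecads ∧ meetSq (dPair (setOf24 cD)) F = v} =
      dPair '' {d | d ∈ supports (golayCode : Set (GolayPt → ZMod 2)) ∧ (d.card = 12 ∧ pt 23 ∈ d ∧
        2 * ((setOf24 cD ∩ d).card ^ 2 + (12 - (setOf24 cD ∩ d).card) ^ 2) = v)} := by
    ext F
    constructor
    · rintro ⟨⟨d, hd, rfl⟩, hk⟩
      by_cases hm : pt 23 ∈ d
      · exact ⟨d, ⟨hd.1, hd.2, hm, (meetSq_dPair hd).symm.trans hk⟩, rfl⟩
      · have hc := compl_mem_dodecads hd
        refine ⟨dᶜ, ⟨hc.1, hc.2, Finset.mem_compl.2 hm, ?_⟩, dPair_compl d⟩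
        rw [← meetSq_dPair hc, dPair_compl]
        exact hk
    · rintro ⟨d, ⟨h1, h2, -, hk⟩, rfl⟩
      exact ⟨⟨d, ⟨h1, h2⟩, rfl⟩, (meetSq_dPair ⟨h1, h2⟩).trans hk⟩
  rw [e, Set.InjOn.ncard_image ?_]
  · refine ncard_codeSet (fun M => ?_) hn
    rw [Bool.and_eq_true, Bool.and_eq_true, beq_iff_eq, hasPt_iff (by norm_num), isDod, beq_iff_eq,
      and_assoc, ← setOf24_and, card_setOf24, card_setOf24]
  · rintro d ⟨-, -, hd, -⟩ d' ⟨-, -, hd', -⟩ he
    have h1 : d ∈ dPair d' := by rw [← he]; simp [dPair]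
    simp only [dPair, Finset.mem_insert, Finset.mem_singleton] at h1
    rcases h1 with h1 | h1
    · exact h1
    · exact absurd hd (h1 ▸ fun h => Finset.mem_compl.1 h hd')

theorem dpair_counts :
    {F | F ∈ dPair '' dodecads ∧ meetSq (dPair (setOf24 cD)) F = 288}.ncard = 1 ∧
    {F | F ∈ dPair '' dodecads ∧ meetSq (dPair (setOf24 cD)) F = 160}.ncard = 495 ∧
    {F | F ∈ dPair '' dodecads ∧ meetSq (dPair (setOf24 cD)) F = 144}.ncard = 792 :=
  ⟨ncard_dpair_class 288 1 (by decide +kernel), ncard_dpair_class 160 495 (by decide +kernel),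
    ncard_dpair_class 144 792 (by decide +kernel)⟩

theorem dpair_key_cases {d : Finset GolayPt} (hd : d ∈ dodecads) :
    meetSq (dPair (setOf24 cD)) (dPair d) ∈ [288, 160, 144] := by
  have key : (codeSel isDod).all (fun M => [288, 160, 144].contains
      (2 * (wt (cD &&& M) ^ 2 + (12 - wt (cD &&& M)) ^ 2))) = true := by decide +kernel
  have := List.all_eq_true.1 key _ (mem_codeSel hd.1 (isDod_maskOf hd))
  rw [List.contains_iff_mem, wt_and_maskOf] at this
  rwa [meetSq_dPair hd]

theorem isCoatom_dpair {d : Finset GolayPt} (hd : d ∈ dodecads) :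
    IsCoatom (MulAction.stabilizer ↥M24 ({d, dᶜ} : Finset (Finset GolayPt))) := by
  obtain ⟨σ, hσ, rfl⟩ := exists_dodecad hd
  refine isCoatom_of_moves ⟨σ, hσ, smul_dPair σ (setOf24 cD)⟩ ?_
  obtain ⟨h1, h495, h792⟩ := dpair_counts
  have horb := dpairs_orbit
  refine isCoatom_stabilizer (dPair (setOf24 cD)) (meetSq (dPair (setOf24 cD)))
    [(288, 1), (160, 495), (144, 792)] (by decide) ?_ ?_ ?_ ?_ (by decide) (by decide)
  · intro y hy z hz h
    rw [horb] at hy hz
    obtain ⟨a, ha, rfl⟩ := hy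
    obtain ⟨b, hb, rfl⟩ := hz
    exact orbit_of_moves (moves_HDP ha hb h)
  · intro y hy h
    rw [horb] at hy
    obtain ⟨t, ht⟩ := Set.ncard_eq_one.1 h1
    have hx : meetSq (dPair (setOf24 cD)) (dPair (setOf24 cD)) = 288 := by
      rw [meetSq_dPair cD_mem, Finset.inter_self, cD_mem.2]
      rfl
    have h2 : y ∈ ({t} : Set (Finset (Finset GolayPt))) := ht ▸ ⟨hy, h.trans hx⟩
    have h3 : dPair (setOf24 cD) ∈ ({t} : Set (Finset (Finset GolayPt))) :=
      ht ▸ ⟨⟨_, cD_mem, rfl⟩, hx⟩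
    rw [Set.mem_singleton_iff] at h2 h3
    rw [h2, h3]
  · intro y hy
    rw [horb] at hy
    obtain ⟨a, ha, rfl⟩ := hy
    exact dpair_key_cases ha
  · intro c hc
    rw [horb]
    simp only [List.mem_cons, List.not_mem_nil, or_false] at hc
    rcases hc with rfl | rfl | rfl
    exacts [h1, h495, h792]

end CfsgLib.GolayOrbits
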