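import Cfsg.Agent.GolayOrbits.Stab
import Cfsg.Agent.M24Classes.Configs

/-!
Shared facts for stabilisers of families of sets (sextets, trios): coded keys, orbits of the
stabiliser of a standard family and their transport to any family.
-/

set_option autoImplicit false

namespace CfsgLib.GolayOrbits

open Cfsg CfsgLib.Mathieu CfsgLib.GolayConfig CfsgLib.M24Classes
open scoped Pointwise

/-- Pieces of a list. -/
def chunksOf {α : Type} (k : ℕ) : List α → ℕ → List (List α)
  | _, 0 => []
  | l, n + 1 => l.take k :: chunksOf k (l.drop k) n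

/-- Total squared intersection, on codes. -/
def keyFamL (S L : List ℕ) : ℕ :=
  (S.map fun a => (L.map fun b => fastWt (Nat.land a b) ^ 2).sum).sum

theorem meetSq_famSet {S L : List ℕ} (hS : (famSet S).card = S.length)
    (hL : (famSet L).card = L.length) : meetSq (famSet S) (famSet L) = keyFamL S L := by
  have nd : ∀ l : List ℕ, (famSet l).card = l.length → (l.map setOf24).Nodup := by
    intro l hl
    refine List.dedup_eq_self.1 ((List.dedup_sublist _).eq_of_length ?_)
    rw [← List.card_toFinset, List.length_map]
    exact hl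
  rw [meetSq, famSet, List.sum_toFinset _ (nd S hS), keyFamL, List.map_map]
  congr 1
  refine List.map_congr_left fun a _ => ?_
  rw [Function.comp_apply, famSet, List.sum_toFinset _ (nd L hL), List.map_map]
  congr 1
  refine List.map_congr_left fun b _ => ?_
  rw [Function.comp_apply, fastWt_eq, ← card_setOf24, show Nat.land a b = a &&& b from rfl, setOf24_and]

/-- The orbits of the stabiliser of `x` on an orbit `O`, given by a key, carried to any image. -/
theorem stabilizer_orbits {X : Type} [MulAction (Equiv.Perm GolayPt) X] {x : X} {O : Set X}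
    (hO : MulAction.orbit ↥M24 x = O) (key : X → ℕ)
    (hkey : ∀ g ∈ MulAction.stabilizer ↥M24 x, ∀ y, key (g • y) = key y)
    (hmoves : ∀ y ∈ O, ∀ z ∈ O, key y = key z →
      Moves (M24 ⊓ MulAction.stabilizer (Equiv.Perm GolayPt) x) y z)
    {y : X} (hy : y ∈ O) :
    MulAction.orbit (MulAction.stabilizer ↥M24 x) y = {z | z ∈ O ∧ key z = key y} :=
  orbit_eq_key (fun g z hz => by
    rw [← hO] at hz ⊢
    obtain ⟨h, rfl⟩ := hz
    exact ⟨g * h, mul_smul g h x⟩) key hkey hmoves hy

end CfsgLib.GolayOrbits
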