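import Cfsg.Agent.GolayOrbits.Families
import Cfsg.Agent.Mathieu.Tables

/-!
The permutation of the members induced by the stabiliser of a family of sets, and the transport of a
stabiliser along `Cfsg.M24`.
-/

set_option autoImplicit false

namespace CfsgLib.GolayOrbits

open Cfsg CfsgLib.Mathieu CfsgLib.GolayConfig CfsgLib.M24Classes
open scoped Pointwise

variable {F : Finset (Finset GolayPt)}

/-- The stabiliser of a family in `Cfsg.M24`. -/
abbrev stabF (F : Finset (Finset GolayPt)) : Subgroup ↥M24 := MulAction.stabilizer ↥M24 F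

theorem smul_mem_stabF (g : stabF F) (t : Finset GolayPt) :
    (g.1.1 : Equiv.Perm GolayPt) • t ∈ F ↔ t ∈ F := by
  have h : (g.1.1 : Equiv.Perm GolayPt) • F = F := g.2
  rw [← Finset.smul_mem_smul_finset_iff (s := F) (b := t) (g.1.1 : Equiv.Perm GolayPt), h]

/-- The permutation induced on the members. -/
def famPerm (F : Finset (Finset GolayPt)) : stabF F →* Equiv.Perm ↥F where
  toFun g := (MulAction.toPerm (g.1.1 : Equiv.Perm GolayPt)).subtypePerm (smul_mem_stabF g)
  map_one' := Equiv.ext fun t => Subtype.ext (one_smul (Equiv.Perm GolayPt) t.1)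
  map_mul' a b := Equiv.ext fun t => Subtype.ext (mul_smul a.1.1 b.1.1 t.1)

theorem famPerm_apply (g : stabF F) (t : ↥F) :
    ((famPerm F g t : ↥F) : Finset GolayPt) = (g.1.1 : Equiv.Perm GolayPt) • (t : Finset GolayPt) :=
  rfl

theorem famPerm_eq_one {g : stabF F} :
    famPerm F g = 1 ↔ ∀ t ∈ F, (g.1.1 : Equiv.Perm GolayPt) • t = t :=
  ⟨fun h t ht => (congrArg Subtype.val (DFunLike.congr_fun h ⟨t, ht⟩) :),
    fun h => Equiv.ext fun t => Subtype.ext (h t.1 t.2)⟩

/-- Every swap of two members is induced, the other members being fixed. -/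
def SwapsIn (F : Finset (Finset GolayPt)) : Prop :=
  ∀ a ∈ F, ∀ b ∈ F, a ≠ b → ∃ g ∈ M24, g • a = b ∧ g • b = a ∧ ∀ c ∈ F, c ≠ a → c ≠ b → g • c = c

theorem SwapsIn.smul (h : SwapsIn F) {σ : Equiv.Perm GolayPt} (hσ : σ ∈ M24) :
    SwapsIn (σ • F) := by
  intro a ha b hb hab
  obtain ⟨a, ha', rfl⟩ := Finset.mem_smul_finset.1 ha
  obtain ⟨b, hb', rfl⟩ := Finset.mem_smul_finset.1 hb
  obtain ⟨g, hg, h1, h2, h3⟩ := h a ha' b hb' fun e => hab (congrArg (σ • ·) e)
  refine ⟨σ * g * σ⁻¹, mul_mem (mul_mem hσ hg) (inv_mem hσ), ?_, ?_, fun c hc hca hcb => ?_⟩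
  · rw [mul_smul, mul_smul, inv_smul_smul, h1]
  · rw [mul_smul, mul_smul, inv_smul_smul, h2]
  · obtain ⟨c, hc', rfl⟩ := Finset.mem_smul_finset.1 hc
    rw [mul_smul, mul_smul, inv_smul_smul,
      h3 c hc' (fun e => hca (congrArg (σ • ·) e)) (fun e => hcb (congrArg (σ • ·) e))]

theorem famPerm_surjective (h : SwapsIn F) : Function.Surjective (famPerm F) := by
  rw [← MonoidHom.range_eq_top, eq_top_iff, ← Equiv.Perm.closure_isSwap, Subgroup.closure_le]
  rintro e ⟨a, b, hab, rfl⟩
  obtain ⟨g, hg, h1, h2, h3⟩ := h a.1 a.2 b.1 b.2 fun e => hab (Subtype.ext e)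
  have hF : g • F = F := by
    refine Finset.eq_of_subset_of_card_le ?_ (Finset.card_smul_finset g F).ge
    intro c hc
    obtain ⟨c, hc', rfl⟩ := Finset.mem_smul_finset.1 hc
    by_cases hca : c = a.1
    · rw [hca, h1]; exact b.2
    by_cases hcb : c = b.1
    · rw [hcb, h2]; exact a.2
    · rw [h3 c hc' hca hcb]; exact hc'
  refine ⟨⟨⟨g, hg⟩, hF⟩, Equiv.ext fun c => Subtype.ext ?_⟩
  rw [famPerm_apply]
  by_cases hca : c = a
  · rw [hca, Equiv.swap_apply_left]; exact h1
  by_cases hcb : c = b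
  · rw [hcb, Equiv.swap_apply_right]; exact h2
  · rw [Equiv.swap_apply_of_ne_of_ne hca hcb]
    exact h3 c.1 c.2 (fun e => hca (Subtype.ext e)) (fun e => hcb (Subtype.ext e))

/-- The size of the subgroup fixing each member. -/
theorem card_fixing_members (h : SwapsIn F) {N k : ℕ} (hN : Nat.card (stabF F) = N)
    (hk : F.card = k) :
    Nat.card {g : stabF F // ∀ t ∈ F, (g.1.1 : Equiv.Perm GolayPt) • t = t} * k.factorial = N := by
  rw [← hN, ← Subgroup.card_mul_index (famPerm F).ker, Subgroup.index_ker,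
    MonoidHom.range_eq_top.2 (famPerm_surjective h), Subgroup.card_top, Nat.card_perm,
    Nat.card_eq_finsetCard, hk]
  congr 1
  exact Nat.card_congr (Equiv.subtypeEquivRight fun g => famPerm_eq_one.symm)

/-- Tables swapping any two of the listed sets and fixing the others. -/
def swapsOK (l tabs : List ℕ) : Bool :=
  l.all fun A => l.all fun B => A == B || tabs.any fun t =>
    push t 24 A == B && push t 24 B == A &&
      (l.all fun C => C == A || C == B || push t 24 C == C) && isM24 t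

theorem swapsIn_of_ok {l tabs : List ℕ} (h : swapsOK l tabs = true) : SwapsIn (famSet l) := by
  intro a ha b hb hab
  obtain ⟨A, hA, rfl⟩ := mem_famSet.1 ha
  obtain ⟨B, hB, rfl⟩ := mem_famSet.1 hb
  have h' := List.all_eq_true.1 (List.all_eq_true.1 h A hA) B hB
  simp only [Bool.or_eq_true, beq_iff_eq, List.any_eq_true, Bool.and_eq_true, List.all_eq_true] at h'
  obtain ⟨t, -, ⟨⟨h1, h2⟩, h3⟩, h4⟩ := h'.resolve_left fun e => hab (congrArg setOf24 e)
  obtain ⟨g, hg, r⟩ := inGroup_M24 h4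
  refine ⟨g, hg, by rw [smul_setOf24 r, h1], by rw [smul_setOf24 r, h2], fun c hc hca hcb => ?_⟩
  obtain ⟨C, hC, rfl⟩ := mem_famSet.1 hc
  rcases h3 C hC with (h' | h') | h'
  · exact absurd (congrArg setOf24 h') hca
  · exact absurd (congrArg setOf24 h') hcb
  · rw [smul_setOf24 r, h']

/-- Conjugation between the stabiliser of a family and that of its image. -/
noncomputable def conjStab (g : ↥M24) (F : Finset (Finset GolayPt)) : stabF F ≃* stabF (g • F) :=
  conjEquivOfIff g fun x => by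
    rw [MulAction.mem_stabilizer_iff, MulAction.mem_stabilizer_iff, mul_smul, mul_smul,
      inv_smul_smul, smul_left_cancel_iff]

/-- Transport of a normal subgroup of exponent two. -/
theorem exists_normal_transport {G H : Type*} [Group G] [Group H] (e : G ≃* H) {N : Subgroup G}
    [N.Normal] (h2 : ∀ x ∈ N, x * x = 1) :
    ∃ (N' : Subgroup H) (_ : N'.Normal), Nat.card N' = Nat.card N ∧ (∀ x ∈ N', x * x = 1) ∧
      Nonempty (G ⧸ N ≃* H ⧸ N') := by
  have hn : (N.map e.toMonoidHom).Normal :=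
    Subgroup.Normal.map inferInstance e.toMonoidHom e.surjective
  refine ⟨N.map e.toMonoidHom, hn, (Nat.card_congr (e.subgroupMap N).toEquiv).symm, ?_, ?_⟩
  · rintro _ ⟨x, hx, rfl⟩
    rw [← map_mul, h2 x hx, map_one]
  · exact ⟨QuotientGroup.congr N (N.map e.toMonoidHom) e rfl⟩

end CfsgLib.GolayOrbits
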