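import Cfsg.Agent.GolayConfig.OctadOrbits
import Cfsg.Agent.GolayOrbits.Data

/-!
Orbit certificates on indexed families of configurations, with the classes separated by a key.
-/

set_option autoImplicit false

namespace CfsgLib.GolayOrbits

open Cfsg CfsgLib.Mathieu CfsgLib.GolayConfig
open scoped Pointwise

variable {X : Type} [MulAction (Equiv.Perm GolayPt) X]

/-- The indices reached; a step packs a reached index, a table number and the new index. -/
def reachIdx (C : Coding X) (gens : List ℕ) (get : ℕ → C.E) : List ℕ → ℕ → ℕ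
  | [], bits => bits
  | s :: rest, bits =>
    match gens[s / 16384 % 16]? with
    | some t =>
      if bits.testBit (s / 262144) &&
          C.same (C.act t (get (s / 262144))) (get (s % 16384)) then
        reachIdx C gens get rest (bits ||| 2 ^ (s % 16384))
      else bits
    | none => bits

theorem moves_of_reachIdx (C : Coding X) {H : Subgroup (Equiv.Perm GolayPt)} {gens : List ℕ}
    (hg : ∀ t ∈ gens, InGroup enc H t) (get : ℕ → C.E) (x₀ : X) :
    ∀ (steps : List ℕ) (bits : ℕ), (∀ i, bits.testBit i = true → Moves H x₀ (C.dec (get i))) →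
      ∀ i, (reachIdx C gens get steps bits).testBit i = true → Moves H x₀ (C.dec (get i))
  | [], _, h => h
  | s :: rest, bits, h => by
    simp only [reachIdx]
    split
    · rename_i t ht
      split
      · rename_i hc
        rw [Bool.and_eq_true] at hc
        obtain ⟨σ, hσ, rσ⟩ := hg t (List.mem_of_getElem? ht)
        refine moves_of_reachIdx C hg get x₀ rest _ fun i hi => ?_
        rw [Nat.testBit_or, Bool.or_eq_true] at hi
        rcases hi with hi | hi
        · exact h i hi
        · rw [Nat.testBit_two_pow, decide_eq_true_eq] at hi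
          subst hi
          exact (h _ hc.1).trans ⟨σ, hσ, (C.dec_act rσ _).symm.trans (C.dec_same hc.2)⟩
      · exact h
    · exact h

/-- The bit set of the indices with key `v`. -/
def keyBits (C : Coding X) (get : ℕ → C.E) (key : C.E → ℕ) (v : ℕ) : List ℕ → ℕ
  | [] => 0
  | i :: l => (if key (get i) == v then 2 ^ i else 0) ||| keyBits C get key v l

theorem testBit_keyBits (C : Coding X) (get : ℕ → C.E) (key : C.E → ℕ) {v i : ℕ} :
    ∀ {l : List ℕ}, i ∈ l → key (get i) = v → (keyBits C get key v l).testBit i = true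
  | [], h, _ => absurd h List.not_mem_nil
  | j :: l, h, hv => by
    rw [keyBits, Nat.testBit_or, Bool.or_eq_true]
    rcases List.mem_cons.1 h with rfl | h
    · left
      rw [if_pos (beq_iff_eq.2 hv)]
      exact Nat.testBit_two_pow_self
    · exact Or.inr (testBit_keyBits C get key h hv)

/-- One certified orbit for each key value occurring among the indices. -/
def orbitsOK (C : Coding X) (gens : List ℕ) (get : ℕ → C.E) (key : C.E → ℕ)
    (classes : List (ℕ × ℕ × List ℕ)) (idxs : List ℕ) : Bool :=
  classes.all (fun c => Nat.land (keyBits C get key c.1 idxs)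
    (reachIdx C gens get c.2.2 (2 ^ c.2.1)) == keyBits C get key c.1 idxs) &&
  idxs.all (fun i => classes.any fun c => c.1 == key (get i))

theorem moves_root {C : Coding X} {H : Subgroup (Equiv.Perm GolayPt)} {gens : List ℕ}
    (hg : ∀ t ∈ gens, InGroup enc H t) {get : ℕ → C.E} {key : C.E → ℕ}
    {classes : List (ℕ × ℕ × List ℕ)} {idxs : List ℕ}
    (h : orbitsOK C gens get key classes idxs = true) {c : ℕ × ℕ × List ℕ} (hc : c ∈ classes)
    {i : ℕ} (hi : i ∈ idxs) (hk : key (get i) = c.1) :
    Moves H (C.dec (get c.2.1)) (C.dec (get i)) := by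
  rw [orbitsOK, Bool.and_eq_true] at h
  have h1 := beq_iff_eq.1 (List.all_eq_true.1 h.1 c hc)
  have h2 := testBit_keyBits C get key (v := c.1) hi hk
  rw [← h1, show Nat.land _ _ = _ &&& _ from rfl, Nat.testBit_and, Bool.and_eq_true] at h2
  refine moves_of_reachIdx C hg get _ _ _ (fun j hj => ?_) i h2.2
  rw [Nat.testBit_two_pow, decide_eq_true_eq] at hj
  subst hj
  exact Moves.refl H _

theorem moves_keys {C : Coding X} {H : Subgroup (Equiv.Perm GolayPt)} {gens : List ℕ}
    (hg : ∀ t ∈ gens, InGroup enc H t) {get : ℕ → C.E} {key : C.E → ℕ}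
    {classes : List (ℕ × ℕ × List ℕ)} {idxs : List ℕ}
    (h : orbitsOK C gens get key classes idxs = true)
    {i j : ℕ} (hi : i ∈ idxs) (hj : j ∈ idxs) (hk : key (get i) = key (get j)) :
    Moves H (C.dec (get i)) (C.dec (get j)) := by
  have h' := h
  rw [orbitsOK, Bool.and_eq_true] at h'
  obtain ⟨c, hc, hck⟩ := List.any_eq_true.1 (List.all_eq_true.1 h'.2 i hi)
  rw [beq_iff_eq] at hck
  exact (moves_root hg h hc hi hck.symm).symm.trans (moves_root hg h hc hj (hk.symm.trans hck.symm))

/-! ### Keys and index decodings -/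

/-- Total squared intersection of two families of sets. -/
def meetSq (S F : Finset (Finset GolayPt)) : ℕ := ∑ a ∈ S, ∑ b ∈ F, (a ∩ b).card ^ 2

theorem meetSq_smul (σ : Equiv.Perm GolayPt) (S F : Finset (Finset GolayPt)) :
    meetSq (σ • S) (σ • F) = meetSq S F := by
  rw [meetSq, meetSq, show σ • S = S.image (fun a => σ • a) from rfl,
    Finset.sum_image (MulAction.injective σ).injOn]
  refine Finset.sum_congr rfl fun a _ => ?_
  rw [show σ • F = F.image (fun a => σ • a) from rfl,
    Finset.sum_image (MulAction.injective σ).injOn]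
  refine Finset.sum_congr rfl fun b _ => ?_
  exact congrArg (· ^ 2) (card_smul_inter σ a b)

/-- The indices of the pairs of positions. -/
def pairIdx : List ℕ :=
  (List.range 24).flatMap fun j => (List.range j).map fun i => i + 24 * j

/-- The pair with a given index. -/
def pairGet (n : ℕ) : ℕ := 2 ^ (n % 24) ||| 2 ^ (n / 24)

/-- The indices of the triples of positions. -/
def triIdx : List ℕ :=
  (List.range 24).flatMap fun k => (List.range k).flatMap fun j =>
    (List.range j).map fun i => i + 24 * j + 576 * k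

/-- The triple with a given index. -/
def triGet (n : ℕ) : ℕ := 2 ^ (n % 24) ||| 2 ^ (n / 24 % 24) ||| 2 ^ (n / 576)

theorem exists_triIdx {s : Finset GolayPt} (hs : s.card = 3) :
    ∃ n ∈ triIdx, setOf24 (triGet n) = s := by
  have key : ∀ i j k : ℕ, i < j → j < k → k < 24 →
      i + 24 * j + 576 * k ∈ triIdx ∧ triGet (i + 24 * j + 576 * k) = 2 ^ i ||| 2 ^ j ||| 2 ^ k := by
    intro i j k hij hjk hk
    refine ⟨?_, ?_⟩
    · simp only [triIdx, List.mem_flatMap, List.mem_map, List.mem_range]
      exact ⟨k, hk, j, hjk, i, hij, rfl⟩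
    · rw [triGet, show (i + 24 * j + 576 * k) % 24 = i by omega,
        show (i + 24 * j + 576 * k) / 24 % 24 = j by omega,
        show (i + 24 * j + 576 * k) / 576 = k by omega]
  have hpow : ∀ p : GolayPt, setOf24 (2 ^ idx p) = {p} := fun p => by
    ext q
    rw [mem_setOf24, Nat.testBit_two_pow, decide_eq_true_eq, Finset.mem_singleton]
    exact ⟨fun h => idx_injective h.symm, fun h => h ▸ rfl⟩
  have h3 : ∀ p q r : GolayPt, idx p < idx q → idx q < idx r →
      ∃ n ∈ triIdx, setOf24 (triGet n) = {p, q, r} := by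
    intro p q r h1 h2
    obtain ⟨hm, he⟩ := key _ _ _ h1 h2 (idx_lt r)
    refine ⟨_, hm, ?_⟩
    rw [he, setOf24_or, setOf24_or, hpow, hpow, hpow]
    ext x
    simp
  obtain ⟨a, b, c, hab, hac, hbc, rfl⟩ := Finset.card_eq_three.1 hs
  have n1 : idx a ≠ idx b := fun h => hab (idx_injective h)
  have n2 : idx a ≠ idx c := fun h => hac (idx_injective h)
  have n3 : idx b ≠ idx c := fun h => hbc (idx_injective h)
  rcases lt_or_gt_of_ne n1 with h1 | h1
  · rcases lt_or_gt_of_ne n3 with h3' | h3'
    · exact h3 a b c h1 h3'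
    · rcases lt_or_gt_of_ne n2 with h2 | h2
      · obtain ⟨n, hn, e⟩ := h3 a c b h2 h3'
        exact ⟨n, hn, e.trans (congrArg (insert a) (Finset.pair_comm c b))⟩
      · obtain ⟨n, hn, e⟩ := h3 c a b h2 h1
        exact ⟨n, hn, e.trans ((Finset.insert_comm c a {b}).trans
          (congrArg (insert a) (Finset.pair_comm c b)))⟩
  · rcases lt_or_gt_of_ne n2 with h2 | h2
    · obtain ⟨n, hn, e⟩ := h3 b a c h1 h2
      exact ⟨n, hn, e.trans (Finset.insert_comm b a {c})⟩
    · rcases lt_or_gt_of_ne n3 with h3' | h3'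
      · obtain ⟨n, hn, e⟩ := h3 b c a h3' h2
        exact ⟨n, hn, e.trans ((congrArg (insert b) (Finset.pair_comm c a)).trans
          (Finset.insert_comm b a {c}))⟩
      · obtain ⟨n, hn, e⟩ := h3 c b a h3' h1
        exact ⟨n, hn, e.trans (((congrArg (insert c) (Finset.pair_comm b a)).trans
          (Finset.insert_comm c a {b})).trans (congrArg (insert a) (Finset.pair_comm c b)))⟩

theorem exists_pairIdx {s : Finset GolayPt} (hs : s.card = 2) :
    ∃ n ∈ pairIdx, setOf24 (pairGet n) = s := by
  have hpow : ∀ p : GolayPt, setOf24 (2 ^ idx p) = {p} := fun p => by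
    ext q
    rw [mem_setOf24, Nat.testBit_two_pow, decide_eq_true_eq, Finset.mem_singleton]
    exact ⟨fun h => idx_injective h.symm, fun h => h ▸ rfl⟩
  have h2 : ∀ p q : GolayPt, idx p < idx q → ∃ n ∈ pairIdx, setOf24 (pairGet n) = {p, q} := by
    intro p q h
    have hq := idx_lt q
    refine ⟨idx p + 24 * idx q, ?_, ?_⟩
    · simp only [pairIdx, List.mem_flatMap, List.mem_map, List.mem_range]
      exact ⟨idx q, hq, idx p, h, rfl⟩
    · rw [pairGet, show (idx p + 24 * idx q) % 24 = idx p by omega,
        show (idx p + 24 * idx q) / 24 = idx q by omega, setOf24_or, hpow, hpow]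
      rfl
  obtain ⟨a, b, hab, rfl⟩ := Finset.card_eq_two.1 hs
  rcases lt_or_gt_of_ne (fun h => hab (idx_injective h)) with h | h
  · exact h2 a b h
  · obtain ⟨n, hn, e⟩ := h2 b a h
    exact ⟨n, hn, e.trans (Finset.pair_comm b a)⟩

end CfsgLib.GolayOrbits
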