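import Cfsg.Agent.GolayOrbits.IndexSubgroups
import Cfsg.Agent.GolayConfig.SylowM23

/-!
Subgroups of index 276 in `Cfsg.M24` are the stabilisers of two-element sets.
-/

set_option autoImplicit false

namespace CfsgLib.GolayOrbits

open Cfsg CfsgLib.Mathieu CfsgLib.GolayConfig CfsgLib.SporadicOut
open scoped Pointwise

/-- The number of fixed points of a member of a set invariant under an element of prime order. -/
theorem card_fixed_modEq {α : Type*} [DecidableEq α] {p : ℕ} (hp : p.Prime) {σ : Equiv.Perm α}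
    (hσ : σ ^ p = 1) {s : Finset α} (hs : ∀ x, σ x ∈ s ↔ x ∈ s) :
    s.card % p = (s.filter fun x => σ x = x).card % p := by
  haveI : Fact p.Prime := ⟨hp⟩
  have hpow : ∀ (n : ℕ) (x : ↥s), (((σ.subtypePerm hs ^ n) x : ↥s) : α) = (σ ^ n) x := by
    intro n
    induction n with
    | zero => intro x; rfl
    | succ n ih =>
      intro x
      rw [pow_succ', pow_succ', Equiv.Perm.mul_apply, Equiv.Perm.mul_apply, ← ih x]
      rfl
  have h := Equiv.Perm.card_compl_support_modEq (p := p) (n := 1) (σ := σ.subtypePerm hs)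
    (Equiv.ext fun x => Subtype.ext (by rw [pow_one, hpow, hσ]; rfl))
  rw [Fintype.card_coe] at h
  rw [show (s.filter fun x => σ x = x).card = ((σ.subtypePerm hs).supportᶜ).card from ?_]
  · exact h.symm
  refine Finset.card_bij (fun x hx => ⟨x, (Finset.mem_filter.1 hx).1⟩) (fun x hx => ?_)
    (fun a _ b _ e => congrArg Subtype.val e) (fun x hx => ⟨x.1, ?_, rfl⟩)
  · rw [Finset.mem_compl, Equiv.Perm.notMem_support]
    exact Subtype.ext (Finset.mem_filter.1 hx).2
  · rw [Finset.mem_compl, Equiv.Perm.notMem_support] at hx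
    exact Finset.mem_filter.2 ⟨x.2, congrArg Subtype.val hx⟩

/-- The second point fixed by the element of order 11. -/
def other11 : ℕ := (((List.range 23).filter fun i => app NormData.a23_11 i == i)).getD 0 0

theorem fixed11 : ∀ σ : Equiv.Perm GolayPt, Rep CfsgLib.Mathieu.enc σ NormData.a23_11 →
    ∀ x, σ x = x ↔ (x = pt 23 ∨ x = pt other11) := by
  intro σ r x
  have key : ∀ p : GolayPt, app NormData.a23_11 (idx p) = idx p ↔ (p = pt 23 ∨ p = pt other11) := by
    decide +kernel
  rw [← key x]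
  have e : app NormData.a23_11 (idx x) = idx (σ x) := r x
  rw [e]
  exact ⟨fun h => congrArg idx h, fun h => idx_injective h⟩

theorem fixed7 : ∀ σ : Equiv.Perm GolayPt, Rep CfsgLib.Mathieu.enc σ NormData.a23_7 →
    ∀ x, σ x = x ↔ (x = pt 23 ∨ x = pt 19 ∨ x = pt 22) := by
  intro σ r x
  have key : ∀ p : GolayPt,
      app NormData.a23_7 (idx p) = idx p ↔ (p = pt 23 ∨ p = pt 19 ∨ p = pt 22) := by
    decide +kernel
  rw [← key x]
  have e : app NormData.a23_7 (idx x) = idx (σ x) := r x
  rw [e]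
  exact ⟨fun h => congrArg idx h, fun h => idx_injective h⟩

theorem card_fixed7_le {σ : Equiv.Perm GolayPt} (r : Rep CfsgLib.Mathieu.enc σ NormData.a23_7)
    (g : Equiv.Perm GolayPt) (s : Finset GolayPt) :
    (s.filter fun x => (g * σ * g⁻¹) x = x).card ≤ 3 ∧
    (g (pt 23) = pt 23 → pt 23 ∉ s → (s.filter fun x => (g * σ * g⁻¹) x = x).card ≤ 2) := by
  have hmem : ∀ x ∈ s.filter fun x => (g * σ * g⁻¹) x = x,
      x = g (pt 23) ∨ x = g (pt 19) ∨ x = g (pt 22) := by
    intro x hx
    have h : g (σ (g⁻¹ x)) = x := (Finset.mem_filter.1 hx).2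
    have h' : σ (g⁻¹ x) = g⁻¹ x := g.injective (h.trans (perm_apply_inv g x).symm)
    rcases (fixed7 σ r _).1 h' with e | e | e <;> rw [← e, perm_apply_inv] <;> simp
  refine ⟨(Finset.card_le_card (t := {g (pt 23), g (pt 19), g (pt 22)}) fun x hx => ?_).trans
    Finset.card_le_three, fun hg hs => (Finset.card_le_card (t := {g (pt 19), g (pt 22)})
      fun x hx => ?_).trans Finset.card_le_two⟩
  · simpa using hmem x hx
  · rcases hmem x hx with e | e | e
    · exact absurd (hg ▸ e ▸ (Finset.mem_filter.1 hx).1) hs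
    all_goals simp [e]

theorem list7_involution : NormData.lists23_7.flatten.all (fun t =>
    !(((List.range 24).all fun i => app t (app t i) == i) && (app t 19 == 19 || app t 22 == 22)) ||
      (List.range 24).all fun i => app t i == i) = true := by
  decide +kernel

/-- A subgroup of order 36960 of the point stabiliser moves every other point. -/
theorem no_second_fixed_point {K : Subgroup Spor.M23} (hK : Nat.card K = 36960) {q : GolayPt}
    (hq : q ≠ pt 23) (hfix : ∀ g ∈ K, (g : Equiv.Perm GolayPt) q = q) : False := by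
  obtain ⟨σ, hσr⟩ := exists_M23_elt (t := NormData.a23_7) (by decide +kernel)
  have ho : orderOf σ = 7 := orderOf_of_hasOrder (by norm_num) hσr (by decide +kernel)
  obtain ⟨g, hg⟩ := exists_conj_mem (p := 7) (by norm_num) ho (m23_card_sq (by simp)) (H := K)
    (by rw [hK]; norm_num)
  let K' : Subgroup Spor.M23 := K.comap (MulAut.conj g).toMonoidHom
  have hK' : Nat.card K' = 36960 := (CfsgLib.GolayConfig.comap_conj_card K g).trans hK
  set q' := (g : Equiv.Perm GolayPt)⁻¹ q with hq'
  have hfix' : ∀ k ∈ K', (k : Equiv.Perm GolayPt) q' = q' := by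
    intro k hk
    have h : (g : Equiv.Perm GolayPt) ((k : Equiv.Perm GolayPt) q') = q := hfix _ hk
    exact (g : Equiv.Perm GolayPt).injective (h.trans (perm_apply_inv _ q).symm)
  have hσK : σ ∈ K' := hg
  have hq19 : q' = pt 19 ∨ q' = pt 22 := by
    refine ((fixed7 _ hσr q').1 (hfix' σ hσK)).resolve_left fun e => hq ?_
    rw [← perm_apply_inv (g : Equiv.Perm GolayPt) q, ← hq', e]
    exact (mem_SporM23.1 g.2).2
  obtain ⟨h1, h2, h3⟩ := card_inf_normalizer_facts (p := 7) (by norm_num) ho (m23_card_sq (by simp))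
    hσK
  obtain ⟨-, -, -, -, ho', hN, -⟩ := m23_norm7
  obtain ⟨σ₀, τ₀, hσ₀, -, -, hN, -⟩ := m23_norm7
  have e : σ₀ = σ := Subtype.ext (rep_unique hσ₀ hσr)
  subst e
  have hdvd := hN ▸ Subgroup.card_dvd_of_le (inf_le_right : K' ⊓ normOf σ₀ ≤ normOf σ₀)
  rw [hK'] at h2 h3
  have h2' : 2 ∣ Nat.card ↥(K' ⊓ normOf σ₀) := by
    have hle := Nat.le_of_dvd (by norm_num) hdvd
    have h1' : 7 ∣ Nat.card ↥(K' ⊓ normOf σ₀) := h1
    have h3' : 36960 / Nat.card ↥(K' ⊓ normOf σ₀) % 7 = 1 := h3
    generalize Nat.card ↥(K' ⊓ normOf σ₀) = m at hdvd hle h1' h3' ⊢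
    interval_cases m <;> omega
  haveI : Fact (Nat.Prime 2) := ⟨Nat.prime_two⟩
  obtain ⟨τ, hτ⟩ := exists_prime_orderOf_dvd_card' 2 h2'
  obtain ⟨t, ht, hr⟩ := exists_table_of_normalizer SporM23_le fixM23 hσr (p := 7) (by norm_num) ho
    (lev := NormData.lev23_7) (Ls := NormData.lists23_7) (by decide +kernel) τ.2.2
  have hτq := hfix' _ τ.2.1
  set π : Equiv.Perm GolayPt := (τ.1 : Equiv.Perm GolayPt) with hπ
  have hsq : ∀ x, π (π x) = x := fun x => by
    have h := congrArg (fun y : ↥(K' ⊓ normOf σ₀) => ((y.1 : Spor.M23) : Equiv.Perm GolayPt))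
      (hτ ▸ pow_orderOf_eq_one τ)
    simp only [pow_two, Subgroup.coe_mul, Subgroup.coe_one] at h
    exact DFunLike.congr_fun h x
  have happ : ∀ i < 24, app t i = idx (π (pt i)) := fun i hi => by
    have := hr (pt i)
    change app t (idx (pt i)) = idx (π (pt i)) at this
    rwa [idx_pt hi] at this
  have hone : ∀ x, π x = x := by
    have h := List.all_eq_true.1 list7_involution t ht
    simp only [Bool.or_eq_true, Bool.not_eq_true', Bool.and_eq_false_iff, List.all_eq_true,
      List.all_eq_false, List.mem_range, beq_iff_eq, Bool.or_eq_false_iff, beq_eq_false_iff_ne] at h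
    rcases h with (⟨i, hi, hne⟩ | ⟨h19, h22⟩) | h
    · refine absurd ?_ hne
      rw [happ i hi, happ _ (idx_lt _), pt_idx, hsq, idx_pt hi]
    · rcases hq19 with e | e
      · exact absurd (by rw [happ 19 (by norm_num), ← e, hτq, e, idx_pt (by norm_num)]) h19
      · exact absurd (by rw [happ 22 (by norm_num), ← e, hτq, e, idx_pt (by norm_num)]) h22
    · intro x
      have := h (idx x) (idx_lt x)
      rw [happ _ (idx_lt x), pt_idx] at this
      exact idx_injective this
  have : τ = 1 := Subtype.ext (Subtype.ext (Equiv.ext hone))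
  rw [this, orderOf_one] at hτ
  norm_num at hτ

theorem card_stab_pair_M24 {s : Finset GolayPt} (hs : s.card = 2) :
    Nat.card (MulAction.stabilizer ↥M24 s) = 887040 := by
  classical
  have horb : MulAction.orbit ↥M24 s = ↑((Finset.univ : Finset GolayPt).powersetCard 2) := by
    ext u
    rw [Finset.mem_coe, Finset.mem_powersetCard]
    constructor
    · rintro ⟨g, rfl⟩
      exact ⟨Finset.subset_univ _, by
        show ((g : Equiv.Perm GolayPt) • s).card = 2
        rw [Finset.card_smul_finset, hs]⟩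
    · rintro ⟨-, hu⟩
      obtain ⟨a, b, hab, rfl⟩ := Finset.card_eq_two.1 hs
      obtain ⟨c, d, hcd, rfl⟩ := Finset.card_eq_two.1 hu
      obtain ⟨σ, hσ, h1, h2⟩ := exists_point_pair hab
      obtain ⟨τ, hτ, h3, h4⟩ := exists_point_pair hcd
      refine ⟨⟨τ * σ⁻¹, mul_mem hτ (inv_mem hσ)⟩, ?_⟩
      show (τ * σ⁻¹) • ({a, b} : Finset GolayPt) = {c, d}
      rw [Finset.smul_finset_insert, Finset.smul_finset_singleton,
        show (τ * σ⁻¹) • a = τ (σ⁻¹ a) from rfl, show (τ * σ⁻¹) • b = τ (σ⁻¹ b) from rfl,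
        ← h1, ← h2, perm_inv_apply, perm_inv_apply, h3, h4]
  have h := Subgroup.index_mul_card (MulAction.stabilizer ↥M24 s)
  rw [MulAction.index_stabilizer, horb, Set.ncard_coe_finset, Finset.card_powersetCard,
    Finset.card_univ, Fintype.card_option, ZMod.card, card_M24] at h
  exact Nat.eq_of_mul_eq_mul_left (by norm_num [Nat.choose_two_right] : 0 < Nat.choose (23 + 1) 2)
    (h.trans (by norm_num [Nat.choose_two_right]))

/-- The main case: the group contains the standard element of order 11. -/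
theorem fixed_pair {H : Subgroup ↥M24} (hH : Nat.card H = 887040) {σ : ↥M24}
    (hσr : Rep CfsgLib.Mathieu.enc (σ : Equiv.Perm GolayPt) NormData.a23_11) (hσ : σ ∈ H) :
    ∃ s : Finset GolayPt, s.card = 2 ∧ H ≤ MulAction.stabilizer ↥M24 s := by
  classical
  obtain ⟨ρ, hρr⟩ := exists_M23_elt (t := NormData.a23_7) (by decide +kernel)
  have hρo : orderOf ρ = 7 := orderOf_of_hasOrder (by norm_num) hρr (by decide +kernel)
  have hρp : (ρ : Equiv.Perm GolayPt) ^ 7 = 1 := by
    rw [← SubgroupClass.coe_pow, ← hρo, pow_orderOf_eq_one]; rfl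
  have hσp : (σ : Equiv.Perm GolayPt) ^ 11 = 1 :=
    eq_of_tab_eq (rep_powTab hσr 11) rep_idTab (by decide +kernel)
  let O : Finset GolayPt := Finset.univ.filter fun p => ∃ g ∈ H, (g : Equiv.Perm GolayPt) (pt 23) = p
  have hO : ∀ g ∈ H, ∀ x, (g : Equiv.Perm GolayPt) x ∈ O ↔ x ∈ O := by
    intro g hg x
    simp only [O, Finset.mem_filter, Finset.mem_univ, true_and]
    constructor
    · rintro ⟨k, hk, e⟩
      refine ⟨g⁻¹ * k, mul_mem (inv_mem hg) hk, ?_⟩
      rw [Subgroup.coe_mul, Subgroup.coe_inv, Equiv.Perm.mul_apply, e, perm_inv_apply]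
    · rintro ⟨k, hk, e⟩
      exact ⟨g * k, mul_mem hg hk, by rw [Subgroup.coe_mul, Equiv.Perm.mul_apply, e]⟩
  have h23 : pt 23 ∈ O := Finset.mem_filter.2 ⟨Finset.mem_univ _, 1, one_mem _, rfl⟩
  let A := MulAction.stabilizer H (pt 23)
  have hAO : O.card * Nat.card A = 887040 := by
    rw [← hH, ← Subgroup.index_mul_card A, MulAction.index_stabilizer]
    congr 1
    have e : MulAction.orbit H (pt 23) = ↑O := by
      ext p
      simp only [O, Finset.coe_filter, Finset.mem_univ, true_and, Set.mem_ofPred_eq]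
      exact ⟨fun ⟨g, hg⟩ => ⟨g.1, g.2, hg⟩, fun ⟨g, hg, e⟩ => ⟨⟨g, hg⟩, e⟩⟩
    rw [e, Set.ncard_coe_finset]
  let j : A →* Spor.M23 :=
    { toFun := fun g => ⟨(g.1.1 : Equiv.Perm GolayPt), mem_SporM23.2 ⟨g.1.1.2, g.2⟩⟩
      map_one' := rfl
      map_mul' := fun _ _ => rfl }
  have hj : Function.Injective j := fun a b e =>
    Subtype.ext (Subtype.ext (Subtype.ext (congrArg Subtype.val e :)))
  have hAdvd : Nat.card A ∣ 10200960 := by
    rw [← card_SporM23]
    exact Subgroup.card_dvd_of_injective j hj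
  have hOle : O.card ≤ 24 := by
    refine (Finset.card_le_univ O).trans ?_
    rw [Fintype.card_option, ZMod.card]
  have hmod11 := card_fixed_modEq (p := 11) (by norm_num) hσp (hO σ hσ)
  have hfix11 : (O.filter fun x => (σ : Equiv.Perm GolayPt) x = x).card ∈ [1, 2] := by
    have h1 : pt 23 ∈ O.filter fun x => (σ : Equiv.Perm GolayPt) x = x :=
      Finset.mem_filter.2 ⟨h23, (fixed11 _ hσr _).2 (Or.inl rfl)⟩
    have h2 : (O.filter fun x => (σ : Equiv.Perm GolayPt) x = x).card ≤ 2 :=
      (Finset.card_le_card (t := {pt 23, pt other11}) fun x hx => by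
        simpa using (fixed11 _ hσr x).1 (Finset.mem_filter.1 hx).2).trans Finset.card_le_two
    have := Finset.card_pos.2 ⟨_, h1⟩
    simp only [List.mem_cons, List.not_mem_nil, or_false]
    omega
  have hcases : O.card = 2 ∨ O.card = 12 ∨ O.card = 24 := by
    obtain ⟨c, hc⟩ := hAdvd
    have hdvd : 887040 ∣ 10200960 * O.card :=
      ⟨c, by rw [hc, ← hAO]; ring⟩
    simp only [List.mem_cons, List.not_mem_nil, or_false] at hfix11
    generalize (O.filter fun x => (σ : Equiv.Perm GolayPt) x = x).card = f at hmod11 hfix11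
    generalize O.card = r at hOle hdvd hmod11
    interval_cases r <;> omega
  -- an element of order seven in `H`
  obtain ⟨g, hg⟩ := exists_conj_mem (p := 7) (by norm_num)
    (show orderOf (⟨(ρ : Equiv.Perm GolayPt), SporM23_le ρ.2⟩ : ↥M24) = 7 by
      rw [← hρo]; exact (orderOf_injective (Subgroup.inclusion SporM23_le)
        (Subgroup.inclusion_injective SporM23_le) ρ))
    (by rw [card_M24]; norm_num) (H := H) (by rw [hH]; norm_num)
  have hmod7 := card_fixed_modEq (p := 7) (by norm_num)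
    (σ := (g : Equiv.Perm GolayPt) * (ρ : Equiv.Perm GolayPt) * (g : Equiv.Perm GolayPt)⁻¹)
    (by rw [conj_pow, hρp]; group) (hO _ hg)
  rcases hcases with h | h | h
  · refine ⟨O, h, fun k hk => ?_⟩
    rw [MulAction.mem_stabilizer_iff]
    refine Finset.eq_of_subset_of_card_le (fun x hx => ?_) (Finset.card_smul_finset _ O).ge
    obtain ⟨y, hy, rfl⟩ := Finset.mem_smul_finset.1 hx
    exact (hO k hk y).2 hy
  · rw [h] at hmod7
    have := (card_fixed7_le hρr (g : Equiv.Perm GolayPt) O).1
    omega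
  · exfalso
    rw [h] at hAO
    have hA : Nat.card A = 36960 :=
      Nat.eq_of_mul_eq_mul_left (by norm_num : 0 < 24) (hAO.trans (by norm_num))
    let K : Subgroup Spor.M23 := j.range
    have hK : Nat.card K = 36960 :=
      (Nat.card_congr (MonoidHom.ofInjective hj).toEquiv).symm.trans hA
    have hσA : ∃ k : Spor.M23, k ∈ K ∧ (k : Equiv.Perm GolayPt) = σ :=
      ⟨j ⟨⟨σ, hσ⟩, (fixed11 _ hσr _).2 (Or.inl rfl)⟩, ⟨_, rfl⟩, rfl⟩
    obtain ⟨s₁, hs₁, es₁⟩ := hσA
    let P : Finset GolayPt :=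
      Finset.univ.filter fun p => ∃ k ∈ K, (k : Equiv.Perm GolayPt) (pt other11) = p
    have hP : ∀ k ∈ K, ∀ x, (k : Equiv.Perm GolayPt) x ∈ P ↔ x ∈ P := by
      intro k hk x
      simp only [P, Finset.mem_filter, Finset.mem_univ, true_and]
      constructor
      · rintro ⟨l, hl, e⟩
        refine ⟨k⁻¹ * l, mul_mem (inv_mem hk) hl, ?_⟩
        rw [Subgroup.coe_mul, Subgroup.coe_inv, Equiv.Perm.mul_apply, e, perm_inv_apply]
      · rintro ⟨l, hl, e⟩
        exact ⟨k * l, mul_mem hk hl, by rw [Subgroup.coe_mul, Equiv.Perm.mul_apply, e]⟩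
    have hK23 : ∀ k : Spor.M23, (k : Equiv.Perm GolayPt) (pt 23) = pt 23 := fun k =>
      (mem_SporM23.1 k.2).2
    have hne : pt other11 ≠ pt 23 := by decide +kernel
    have hP23 : pt 23 ∉ P := fun hmem => by
      obtain ⟨k, -, e⟩ := (Finset.mem_filter.1 hmem).2
      exact hne ((k : Equiv.Perm GolayPt).injective (e.trans (hK23 k).symm))
    have hPo : pt other11 ∈ P := Finset.mem_filter.2 ⟨Finset.mem_univ _, 1, one_mem _, rfl⟩
    have hPdvd : P.card ∣ 36960 := by
      have e : MulAction.orbit K (pt other11) = ↑P := by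
        ext p
        simp only [P, Finset.coe_filter, Finset.mem_univ, true_and, Set.mem_ofPred_eq]
        exact ⟨fun ⟨k, hk⟩ => ⟨k.1, k.2, hk⟩, fun ⟨k, hk, e⟩ => ⟨⟨k, hk⟩, e⟩⟩
      rw [← hK, ← Set.ncard_coe_finset, ← e, ← MulAction.index_stabilizer]
      exact Subgroup.index_dvd_card _
    have hP11 := card_fixed_modEq (p := 11) (by norm_num) hσp (es₁ ▸ hP s₁ hs₁)
    rw [show P.filter (fun x => (σ : Equiv.Perm GolayPt) x = x) = {pt other11} from by
      ext x
      rw [Finset.mem_filter, Finset.mem_singleton]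
      refine ⟨fun hx => ((fixed11 _ hσr x).1 hx.2).resolve_left fun e => hP23 (e ▸ hx.1), ?_⟩
      rintro rfl
      exact ⟨hPo, (fixed11 _ hσr _).2 (Or.inr rfl)⟩, Finset.card_singleton] at hP11
    have hPle : P.card ≤ 23 := by
      have : P ⊆ (Finset.univ : Finset GolayPt).erase (pt 23) := fun x hx =>
        Finset.mem_erase.2 ⟨fun e => hP23 (e ▸ hx), Finset.mem_univ x⟩
      refine (Finset.card_le_card this).trans ?_
      rw [Finset.card_erase_of_mem (Finset.mem_univ _), Finset.card_univ, Fintype.card_option, ZMod.card]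
    have hP2 : P.card = 1 ∨ P.card = 12 := by
      generalize P.card = r at hPle hPdvd hP11
      interval_cases r <;> omega
    rcases hP2 with hP1 | hP12
    · refine no_second_fixed_point hK hne fun k hk => ?_
      obtain ⟨x, hx⟩ := Finset.card_eq_one.1 hP1
      have h1 := (hP k hk (pt other11)).2 hPo
      rw [hx, Finset.mem_singleton] at hPo h1
      rw [h1, hPo]
    · obtain ⟨g', hg'⟩ := exists_conj_mem (p := 7) (by norm_num) hρo (m23_card_sq (by simp)) (H := K)
        (by rw [hK]; norm_num)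
      have hs : ∀ x, ((g' : Equiv.Perm GolayPt) * (ρ : Equiv.Perm GolayPt) * (g' : Equiv.Perm GolayPt)⁻¹) x ∈
          (Finset.univ.erase (pt 23) \ P) ↔ x ∈ (Finset.univ.erase (pt 23) \ P) := by
        intro x
        have hfix : ((g' * ρ * g'⁻¹ : Spor.M23) : Equiv.Perm GolayPt) (pt 23) = pt 23 := hK23 _
        simp only [Finset.mem_sdiff, Finset.mem_erase, Finset.mem_univ, and_true]
        refine and_congr (not_congr ⟨fun e => ?_, fun e => ?_⟩) (not_congr (hP _ hg' x))
        · exact ((g' * ρ * g'⁻¹ : Spor.M23) : Equiv.Perm GolayPt).injective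
            ((e : ((g' * ρ * g'⁻¹ : Spor.M23) : Equiv.Perm GolayPt) x = pt 23).trans hfix.symm)
        · rw [e]; exact hfix
      have hcard : (Finset.univ.erase (pt 23) \ P).card = 11 := by
        have hsub : P ⊆ Finset.univ.erase (pt 23) := fun x hx =>
          Finset.mem_erase.2 ⟨fun e => hP23 (e ▸ hx), Finset.mem_univ x⟩
        rw [Finset.card_sdiff_of_subset hsub,
          Finset.card_erase_of_mem (Finset.mem_univ _), Finset.card_univ, Fintype.card_option,
          ZMod.card, hP12]
      have h7 := card_fixed_modEq (p := 7) (by norm_num)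
        (σ := (g' : Equiv.Perm GolayPt) * (ρ : Equiv.Perm GolayPt) * (g' : Equiv.Perm GolayPt)⁻¹)
        (by rw [conj_pow, hρp]; group) hs
      have := (card_fixed7_le hρr (g' : Equiv.Perm GolayPt) (Finset.univ.erase (pt 23) \ P)).2
        (hK23 g') (by simp)
      rw [hcard] at h7
      omega

theorem index_276 (K : Subgroup ↥M24) (hK : K.index = 276) :
    ∃ s : Finset GolayPt, s.card = 2 ∧ K = MulAction.stabilizer ↥M24 s := by
  have hc := card_of_index (m := 887040) hK (by norm_num) (by norm_num)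
  obtain ⟨σ₀, hσr⟩ := exists_M23_elt (t := NormData.a23_11) (by decide +kernel)
  let σ : ↥M24 := Subgroup.inclusion SporM23_le σ₀
  have ho : orderOf σ = 11 :=
    (orderOf_injective _ (Subgroup.inclusion_injective SporM23_le) σ₀).trans
      (orderOf_of_hasOrder (by norm_num) hσr (by decide +kernel))
  obtain ⟨g, hg⟩ := exists_conj_mem (p := 11) (by norm_num) ho (by rw [card_M24]; norm_num) (H := K)
    (by rw [hc]; norm_num)
  obtain ⟨s, hs, hle⟩ := fixed_pair (H := K.comap (MulAut.conj g).toMonoidHom)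
    ((CfsgLib.GolayConfig.comap_conj_card K g).trans hc) (σ := σ) hσr hg
  refine ⟨(g : Equiv.Perm GolayPt) • s, by rw [Finset.card_smul_finset, hs],
    Subgroup.eq_of_le_of_card_ge (fun k hk => ?_)
      (by rw [hc, card_stab_pair_M24 (by rw [Finset.card_smul_finset, hs])])⟩
  have hk' : g⁻¹ * k * g ∈ K.comap (MulAut.conj g).toMonoidHom := by
    show g * (g⁻¹ * k * g) * g⁻¹ ∈ K
    simpa [mul_assoc] using hk
  have := hle hk'
  rw [MulAction.mem_stabilizer_iff, mul_smul, mul_smul, inv_smul_eq_iff] at this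
  exact this

end CfsgLib.GolayOrbits
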