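import Cfsg.Agent.GolayOrbits.TransPairs

/-!
Subgroups of odd index 759, 1771 and 253 in `Cfsg.M24`.
-/

set_option autoImplicit false

namespace CfsgLib.GolayOrbits

open Cfsg CfsgLib.Mathieu CfsgLib.GolayConfig CfsgLib.M24Classes
open scoped Pointwise

variable {H : Subgroup (Equiv.Perm GolayPt)}

/-- The sextets at key 48. -/
def near48 : List ℕ := sextIdx.filter fun i => keyFamL cSext (sextGet i) == 48

theorem near48_noClique :
    noClique (fun i j => keyFamL (sextGet i) (sextGet j) == 48) 7 near48 = true := by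
  decide +kernel

theorem clique48_card {X : Finset (Finset (Finset GolayPt))} (hX : ∀ S ∈ X, S ∈ sextets)
    (h0 : ∀ S ∈ X, meetSq (famSet cSext) S = 48)
    (hpair : ∀ S ∈ X, ∀ R ∈ X, S ≠ R → meetSq S R = 48) : X.card ≤ 6 := by
  classical
  have hex : ∀ S ∈ X, ∃ i ∈ sextIdx, famSet (sextGet i) = S := fun S hS => by
    have := hX S hS
    rw [sextets_indexed] at this
    exact this
  choose f hf hfS using hex
  have hinj : ∀ S hS R hR, f S hS = f R hR → S = R := fun S hS R hR e => by
    rw [← hfS S hS, ← hfS R hR, e]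
  let T : Finset ℕ := X.attach.image fun S => f S.1 S.2
  have hT : T.card = X.card := by
    rw [Finset.card_image_of_injective _ fun S R e => Subtype.ext (hinj _ _ _ _ e), Finset.card_attach]
  have := noClique_spec _ 7 near48 near48_noClique T ?_ ?_
  · omega
  · intro i hi
    obtain ⟨S, -, rfl⟩ := Finset.mem_image.1 hi
    refine List.mem_filter.2 ⟨hf _ S.2, beq_iff_eq.2 ?_⟩
    rw [← sext_key (hf _ S.2), hfS, h0 _ S.2]
  · intro i hi j hj hne
    obtain ⟨S, -, rfl⟩ := Finset.mem_image.1 hi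
    obtain ⟨R, -, rfl⟩ := Finset.mem_image.1 hj
    have hc : ∀ S hS, (famSet (sextGet (f S hS))).card = (sextGet (f S hS)).length := fun S hS =>
      sext_card (sextGet_mem (hf S hS))
    rw [beq_iff_eq, ← meetSq_famSet (hc _ S.2) (hc _ R.2), hfS, hfS]
    exact hpair _ S.2 _ R.2 fun e => hne (by rw [Subtype.ext e])

theorem card_comap_conj (H : Subgroup (Equiv.Perm GolayPt)) (g : Equiv.Perm GolayPt) :
    Nat.card (H.comap (MulAut.conj g).toMonoidHom) = Nat.card H :=
  Nat.card_congr (Equiv.subtypeEquiv (MulAut.conj g).toEquiv fun _ => Iff.rfl)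

theorem comap_le_M24 (hle : H ≤ M24) {k : Equiv.Perm GolayPt} (hk : k ∈ M24) :
    H.comap (MulAut.conj k).toMonoidHom ≤ M24 := fun h hh => by
  have h1 : k * h * k⁻¹ ∈ M24 := hle hh
  have := mul_mem (mul_mem (inv_mem hk) h1) hk
  simpa [mul_assoc] using this

theorem card_pair_stab {S : Finset (Finset GolayPt)} (hS : S ∈ sextets)
    (h : meetSq (famSet cSext) S = 48) :
    Nat.card (MulAction.stabilizer (stabF (famSet cSext)) S) = 1536 := by
  have horb : MulAction.orbit (stabF (famSet cSext)) S =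
      {z | z ∈ sextets ∧ meetSq (famSet cSext) z = 48} := by
    rw [stabilizer_orbits sextets_orbit (meetSq (famSet cSext))
      (fun g hg y => by
        conv_lhs => rw [← (MulAction.mem_stabilizer_iff.1 hg : g • famSet cSext = famSet cSext)]
        exact meetSq_smul g.1 _ y)
      (fun y hy z hz h => moves_HS6 hy hz h) hS, h]
  have := Subgroup.index_mul_card (MulAction.stabilizer (stabF (famSet cSext)) S)
  rw [MulAction.index_stabilizer, horb, sext_counts, sext_count_values.2.1,
    card_stabF_sextet cSext_mem] at this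
  exact Nat.eq_of_mul_eq_mul_left (by norm_num : 0 < 90) (this.trans (by norm_num))

/-- With all conjugate sextets at key 48 the group fixes the sextet or is small. -/
theorem fixed_or_small (hle : H ≤ M24)
    (hall : ∀ h ∈ H, meetSq (famSet cSext) (h • famSet cSext) = 96 ∨
      meetSq (famSet cSext) (h • famSet cSext) = 48) :
    (∀ h ∈ H, h • famSet cSext = famSet cSext) ∨ Nat.card H ≤ 64512 := by
  classical
  by_cases hfix : ∀ h ∈ H, h • famSet cSext = famSet cSext
  · exact Or.inl hfix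
  push Not at hfix
  obtain ⟨s, hs, hne⟩ := hfix
  right
  set S0 := famSet cSext with hS0
  have hsx : ∀ g : H, (g : Equiv.Perm GolayPt) • S0 ∈ sextets := fun g =>
    smul_mem_sextets (hle g.2) cSext_mem
  have hrel : ∀ a b : H, (a : Equiv.Perm GolayPt) • S0 ≠ (b : Equiv.Perm GolayPt) • S0 →
      meetSq ((a : Equiv.Perm GolayPt) • S0) ((b : Equiv.Perm GolayPt) • S0) = 48 := by
    intro a b hab
    have e : (b : Equiv.Perm GolayPt) • S0 = (a : Equiv.Perm GolayPt) • (((a⁻¹ * b : H) : Equiv.Perm GolayPt) • S0) := by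
      rw [Subgroup.coe_mul, Subgroup.coe_inv, mul_smul, smul_inv_smul]
    rw [e, meetSq_smul]
    refine (hall _ (a⁻¹ * b).2).resolve_left fun h => hab ?_
    rw [e, (sext_key_self (hsx _)).1 h]
  let Ω : Finset (Finset (Finset GolayPt)) :=
    (Finset.univ : Finset H).image fun g => (g : Equiv.Perm GolayPt) • S0
  have hmemΩ : ∀ {S}, S ∈ Ω ↔ ∃ g : H, (g : Equiv.Perm GolayPt) • S0 = S := by
    intro S; simp [Ω]
  have hS0Ω : S0 ∈ Ω := hmemΩ.2 ⟨1, one_smul _ S0⟩
  have hsmall : (Ω.erase S0).card ≤ 6 := by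
    refine clique48_card (fun S hS => ?_) (fun S hS => ?_) (fun S hS R hR hSR => ?_)
    · obtain ⟨g, rfl⟩ := hmemΩ.1 (Finset.mem_of_mem_erase hS)
      exact hsx g
    · obtain ⟨g, rfl⟩ := hmemΩ.1 (Finset.mem_of_mem_erase hS)
      have := hrel 1 g (by rw [Subgroup.coe_one, one_smul]; exact (Finset.ne_of_mem_erase hS).symm)
      rwa [Subgroup.coe_one, one_smul] at this
    · obtain ⟨a, rfl⟩ := hmemΩ.1 (Finset.mem_of_mem_erase hS)
      obtain ⟨b, rfl⟩ := hmemΩ.1 (Finset.mem_of_mem_erase hR)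
      exact hrel a b hSR
  have hΩ : (MulAction.orbit H S0).ncard ≤ 7 := by
    have e : MulAction.orbit H S0 = ↑Ω := by
      ext S; rw [Finset.mem_coe, hmemΩ]; rfl
    rw [e, Set.ncard_coe_finset, ← Finset.card_erase_add_one hS0Ω]
    omega
  let A := MulAction.stabilizer H S0
  set T := s • S0 with hT
  have hT48 : meetSq S0 T = 48 :=
    (hall s hs).resolve_left fun h => hne ((sext_key_self (smul_mem_sextets (hle hs) cSext_mem)).1 h)
  have horb2 : (MulAction.orbit A T).ncard ≤ 6 := by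
    refine le_trans (Set.ncard_le_ncard (fun S hS => ?_) (Finset.finite_toSet (Ω.erase S0))) ?_
    · obtain ⟨g, rfl⟩ := hS
      refine Finset.mem_coe.2 (Finset.mem_erase.2 ⟨fun e => hne ?_, hmemΩ.2 ⟨g.1 * ⟨s, hs⟩, ?_⟩⟩)
      · have hg : (g.1.1 : Equiv.Perm GolayPt) • S0 = S0 := g.2
        exact smul_left_cancel g.1.1 ((e : g.1.1 • T = S0).trans hg.symm)
      · exact mul_smul g.1.1 s S0
    · rw [Set.ncard_coe_finset]; exact hsmall
  have hB : Nat.card (MulAction.stabilizer A T) ≤ 1536 := by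
    rw [← card_pair_stab (smul_mem_sextets (hle hs) cSext_mem) hT48]
    refine Nat.card_le_card_of_injective
      (fun g => ⟨⟨⟨g.1.1.1, hle g.1.1.2⟩, g.1.2⟩, g.2⟩) fun a b e => ?_
    exact Subtype.ext (Subtype.ext (Subtype.ext (congrArg (fun x => x.1.1.1) e)))
  have hA : Nat.card A ≤ 6 * 1536 := by
    rw [← Subgroup.index_mul_card (MulAction.stabilizer A T), MulAction.index_stabilizer]
    exact Nat.mul_le_mul horb2 hB
  rw [← Subgroup.index_mul_card A, MulAction.index_stabilizer]
  exact (Nat.mul_le_mul hΩ hA).trans (by norm_num)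

/-- The two far cases, and the rest. -/
theorem dichotomy (hle : H ≤ M24) (hT : TransIn H (famSet cSext)) (h11 : ¬ 11 ∣ Nat.card H)
    (hbig : 64512 < Nat.card H) (hN : NoUnion (Nat.card H)) :
    (∀ h ∈ H, h • famSet cSext = famSet cSext) ∨
      (7 ∣ Nat.card H ∧ ∃ o ∈ octads, ∀ h ∈ H, h • o = o) := by
  by_cases hall : ∀ h ∈ H, meetSq (famSet cSext) (h • famSet cSext) = 96 ∨
      meetSq (famSet cSext) (h • famSet cSext) = 48
  · exact Or.inl ((fixed_or_small hle hall).resolve_right (by omega))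
  push Not at hall
  obtain ⟨h, hh, h96, h48⟩ := hall
  have hS := smul_mem_sextets (hle hh) cSext_mem
  have hcase := sext_key_cases hS
  simp only [List.mem_cons, List.not_mem_nil, or_false, h96, h48, false_or] at hcase
  have main : ∀ i, i ∈ sextIdx → keyFamL cSext (sextGet i) =
      meetSq (famSet cSext) (h • famSet cSext) →
      ∃ k ∈ M24, TransIn (H.comap (MulAut.conj k).toMonoidHom) (famSet cSext) ∧
        TransIn (H.comap (MulAut.conj k).toMonoidHom) (famSet (sextGet i)) := by
    intro i hi e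
    have hR : famSet (sextGet i) ∈ sextets := by
      rw [sextets_indexed]; exact ⟨i, hi, rfl⟩
    obtain ⟨k, hk, hkR⟩ := moves_HS6 hR hS (by rw [sext_key hi, e])
    refine ⟨k, hk.1, TransIn.comap hk.1 ?_, TransIn.comap hk.1 ?_⟩
    · rwa [show k • famSet cSext = famSet cSext from hk.2]
    · rw [show k • famSet (sextGet i) = h • famSet cSext from hkR]
      exact hT.smul hle hh
  rcases hcase with e | e
  · obtain ⟨k, hk, t0, t1⟩ := main 1 (mem_sextIdx (by norm_num)) (by rw [e]; decide +kernel)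
    have hc := card_comap_conj H k
    refine Or.inr ⟨hc ▸ dvd_card_of_table (by norm_num)
      (inGroup_wordTab (inGroup_pool t0 t1 trans_tables_ok.2.1) nearWord7) word_orders.1,
      k • setOf24 nearOct, (smul_mem_wordsOfWeight_iff hk 8 _).2
        (setOf24_mem_wordsOfWeight nearGens_fix.2.1 nearGens_fix.2.2), fun g hg => ?_⟩
    have hg' : k⁻¹ * g * k ∈ H.comap (MulAut.conj k).toMonoidHom := by
      show k * (k⁻¹ * g * k) * k⁻¹ ∈ H
      simpa [mul_assoc] using hg
    have := fixed_octad_of_near (comap_le_M24 hle hk) t0 t1 (by rw [hc]; exact hN) _ hg'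
    rw [mul_smul, mul_smul, inv_smul_eq_iff] at this
    exact this
  · obtain ⟨k, hk, t0, t1⟩ := main 7 (mem_sextIdx (by norm_num)) (by rw [e]; decide +kernel)
    exact absurd ((card_comap_conj H k) ▸ dvd_card_of_table (by norm_num)
      (inGroup_wordTab (inGroup_pool t0 t1 trans_tables_ok.2.2) farWord11) word_orders.2) h11

theorem isPGroup_sextTrans : IsPGroup 2 sextTrans :=
  IsPGroup.of_card (n := 6) (by rw [card_sextTrans]; norm_num)

/-- A subgroup of odd index contains the translations of some sextet. -/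
theorem exists_transIn {K : Subgroup ↥M24} (hodd : 2 ^ 10 ∣ Nat.card K) :
    ∃ k ∈ M24, TransIn ((K.map M24.subtype).comap (MulAut.conj k).toMonoidHom) (famSet cSext) := by
  haveI : Fact (Nat.Prime 2) := ⟨Nat.prime_two⟩
  let N : Subgroup ↥M24 := sextTrans.map (stabF (famSet cSext)).subtype
  have hN : IsPGroup 2 N :=
    isPGroup_sextTrans.map _
  obtain ⟨P, hP⟩ := hN.exists_le_sylow
  obtain ⟨Q, hQ⟩ := Sylow.exists_subgroup_card_pow_prime 2 hodd
  have hf : (Nat.card ↥M24).factorization 2 = 10 := by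
    rw [card_M24, show (244823040 : ℕ) = 2 ^ 10 * 239085 by norm_num,
      Nat.factorization_mul (by norm_num) (by norm_num)]
    rw [Finsupp.add_apply, Nat.factorization_pow, Finsupp.smul_apply,
      Nat.Prime.factorization_self Nat.prime_two,
      Nat.factorization_eq_zero_of_not_dvd (show ¬ 2 ∣ 239085 by norm_num)]
    rfl
  let R : Sylow 2 ↥M24 := Sylow.ofCard (Q.map K.subtype) (by
    rw [hf, ← hQ]
    exact (Nat.card_congr (Subgroup.equivMapOfInjective Q _ K.subtype_injective).toEquiv).symm)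
  obtain ⟨g, hg⟩ := MulAction.exists_smul_eq ↥M24 P R
  refine ⟨g.1, g.2, fun σ hσ ht => ?_⟩
  have hmem : (⟨σ, hσ⟩ : ↥M24) ∈ N := ⟨⟨⟨σ, hσ⟩, smul_eq_of_isTrans ht⟩, ht, rfl⟩
  have h1 : g * ⟨σ, hσ⟩ * g⁻¹ ∈ (R : Subgroup ↥M24) := by
    rw [← hg, Sylow.coe_subgroup_smul, Subgroup.mem_pointwise_smul_iff_inv_smul_mem]
    simpa [mul_assoc] using hP hmem
  obtain ⟨q, -, hq⟩ := h1
  exact ⟨g * ⟨σ, hσ⟩ * g⁻¹, hq ▸ q.2, rfl⟩

theorem noUnion_759 : NoUnion 322560 := by unfold NoUnion; decide +kernel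

theorem noUnion_253 : NoUnion 967680 := by unfold NoUnion; decide +kernel

theorem noUnion_1771 : NoUnion 138240 := by unfold NoUnion; decide +kernel

/-- The conclusion for a subgroup of `Cfsg.M24` whose order is a multiple of `2 ^ 10`. -/
theorem index_dichotomy {K : Subgroup ↥M24} (h2 : 2 ^ 10 ∣ Nat.card K) (h11 : ¬ 11 ∣ Nat.card K)
    (hbig : 64512 < Nat.card K) (hN : NoUnion (Nat.card K)) :
    (∃ S ∈ sextets, K ≤ MulAction.stabilizer ↥M24 S) ∨
      (7 ∣ Nat.card K ∧ ∃ o ∈ octads, K ≤ MulAction.stabilizer ↥M24 o) := by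
  obtain ⟨k, hk, hT⟩ := exists_transIn h2
  have hle : K.map M24.subtype ≤ M24 := by rintro _ ⟨x, -, rfl⟩; exact x.2
  have hc : Nat.card ((K.map M24.subtype).comap (MulAut.conj k).toMonoidHom) = Nat.card K :=
    (card_comap_conj _ k).trans
      (Nat.card_congr (Subgroup.equivMapOfInjective K _ M24.subtype_injective).toEquiv).symm
  have move : ∀ g ∈ K, k⁻¹ * g.1 * k ∈ (K.map M24.subtype).comap (MulAut.conj k).toMonoidHom := by
    intro g hg
    show k * (k⁻¹ * g.1 * k) * k⁻¹ ∈ K.map M24.subtype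
    refine ⟨g, hg, ?_⟩
    simp [mul_assoc]
  rcases dichotomy (comap_le_M24 hle hk) hT (hc ▸ h11) (hc ▸ hbig) (hc ▸ hN) with h | ⟨h7, o, ho, h⟩
  · refine Or.inl ⟨k • famSet cSext, smul_mem_sextets hk cSext_mem, fun g hg => ?_⟩
    have := h _ (move g hg)
    rw [mul_smul, mul_smul, inv_smul_eq_iff] at this
    exact this
  · refine Or.inr ⟨hc ▸ h7, k • o, (smul_mem_wordsOfWeight_iff hk 8 _).2 ho, fun g hg => ?_⟩
    have := h _ (move g hg)
    rw [mul_smul, mul_smul, inv_smul_eq_iff] at this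
    exact this

theorem card_of_index {K : Subgroup ↥M24} {n m : ℕ} (hn : K.index = n) (hnm : n * m = 244823040)
    (h0 : 0 < n) : Nat.card K = m := by
  have h := Subgroup.index_mul_card K
  rw [hn, card_M24, ← hnm] at h
  exact Nat.eq_of_mul_eq_mul_left h0 h

theorem card_stab_octad_M24 {o : Finset GolayPt} (ho : o ∈ octads) :
    Nat.card (MulAction.stabilizer ↥M24 o) = 322560 :=
  (Nat.card_congr (stabilizerInfEquiv M24 o).toEquiv).trans (card_stab_octad ho)

theorem index_759 (K : Subgroup ↥M24) (hK : K.index = 759) :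
    ∃ o ∈ octads, K = MulAction.stabilizer ↥M24 o := by
  have hc := card_of_index (m := 322560) hK (by norm_num) (by norm_num)
  rcases index_dichotomy (K := K) (by rw [hc]; norm_num) (by rw [hc]; norm_num) (by rw [hc]; norm_num)
    (hc ▸ noUnion_759) with ⟨S, hS, hle⟩ | ⟨-, o, ho, hle⟩
  · have := Nat.le_of_dvd Nat.card_pos (Subgroup.card_dvd_of_le hle)
    rw [hc, card_stabF_sextet hS] at this
    norm_num at this
  · exact ⟨o, ho, Subgroup.eq_of_le_of_card_ge hle (by rw [hc, card_stab_octad_M24 ho])⟩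

theorem index_1771 (K : Subgroup ↥M24) (hK : K.index = 1771) :
    ∃ S ∈ sextets, K = MulAction.stabilizer ↥M24 S := by
  have hc := card_of_index (m := 138240) hK (by norm_num) (by norm_num)
  rcases index_dichotomy (K := K) (by rw [hc]; norm_num) (by rw [hc]; norm_num) (by rw [hc]; norm_num)
    (hc ▸ noUnion_1771) with ⟨S, hS, hle⟩ | ⟨h7, -⟩
  · exact ⟨S, hS, Subgroup.eq_of_le_of_card_ge hle (by rw [hc]; exact (card_stabF_sextet hS).le)⟩
  · rw [hc] at h7; norm_num at h7

theorem index_ne_253 (K : Subgroup ↥M24) : K.index ≠ 253 := by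
  intro hK
  have hc := card_of_index (m := 967680) hK (by norm_num) (by norm_num)
  rcases index_dichotomy (K := K) (by rw [hc]; norm_num) (by rw [hc]; norm_num) (by rw [hc]; norm_num)
    (hc ▸ noUnion_253) with ⟨S, hS, hle⟩ | ⟨-, o, ho, hle⟩
  · have := Nat.le_of_dvd Nat.card_pos (Subgroup.card_dvd_of_le hle)
    rw [hc, card_stabF_sextet hS] at this
    norm_num at this
  · have := Nat.le_of_dvd Nat.card_pos (Subgroup.card_dvd_of_le hle)
    rw [hc, card_stab_octad_M24 ho] at this
    norm_num at this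

end CfsgLib.GolayOrbits
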