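import Cfsg.Agent.GolayOrbits.Stab

/-!
The stabiliser of an octad in `Cfsg.M24`: its four orbits on octads, maximality, and its order.
-/

set_option autoImplicit false

namespace CfsgLib.GolayOrbits

open Cfsg CfsgLib.Mathieu CfsgLib.GolayConfig
open scoped Pointwise

/-- The stabiliser of the standard octad. -/
def HO : Subgroup (Equiv.Perm GolayPt) := cut M24 setCoding cOctX

theorem gensHO : ∀ t ∈ gOct, InGroup enc HO t :=
  inGroup_of_checks (inGroup_of_isM24 (by decide +kernel)) (by decide +kernel)

theorem stdOct_mem : setOf24 cOctX ∈ octads :=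
  setOf24_mem_wordsOfWeight (by decide +kernel) (by decide +kernel)

theorem exists_octad_map {o : Finset GolayPt} (ho : o ∈ octads) :
    Moves M24 (setOf24 cOctX) o :=
  M24_octad_transitive stdOct_mem ho

theorem octads_orbit : MulAction.orbit ↥M24 (setOf24 cOctX) = octads := by
  ext o
  refine ⟨?_, fun ho => moves_iff_mem_orbit.1 (exists_octad_map ho)⟩
  rintro ⟨g, rfl⟩
  exact (smul_mem_wordsOfWeight_iff g.2 8 _).2 stdOct_mem

theorem octad_classes_ok : (List.range 4096).all (fun m => !isOct (codeMask m) ||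
      (octStepsClasses.any (fun c => wt (cOctX &&& c.1) == wt (cOctX &&& codeMask m)) &&
        octStepsClasses.all (fun c => !(wt (cOctX &&& c.1) == wt (cOctX &&& codeMask m)) ||
          (reachCode gOct c.2 (2 ^ (c.1 % 4096))).testBit m))) = true := by
  decide +kernel

theorem moves_HO {o o' : Finset GolayPt} (ho : o ∈ octads) (ho' : o' ∈ octads)
    (h : (setOf24 cOctX ∩ o).card = (setOf24 cOctX ∩ o').card) : Moves HO o o' :=
  moves_classes gensHO octStepsClasses isOct (fun M => wt (cOctX &&& M)) (by decide +kernel)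
    octad_classes_ok ho.1 ho'.1 (isOct_maskOf ho) (isOct_maskOf ho')
    (by simp only [wt_and_maskOf]; exact h)

theorem octad_meet_card (k n : ℕ)
    (hn : (codeSel fun M => isOct M && wt (cOctX &&& M) == k).length = n) :
    {y | y ∈ octads ∧ (setOf24 cOctX ∩ y).card = k}.ncard = n := by
  rw [setOf_octads_eq]
  refine ncard_codeSet (fun M => ?_) hn
  rw [Bool.and_eq_true, isOct_iff, beq_iff_eq, ← card_setOf24, setOf24_and]

theorem octad_meet_counts :
    {y | y ∈ octads ∧ (setOf24 cOctX ∩ y).card = 8}.ncard = 1 ∧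
    {y | y ∈ octads ∧ (setOf24 cOctX ∩ y).card = 0}.ncard = 30 ∧
    {y | y ∈ octads ∧ (setOf24 cOctX ∩ y).card = 4}.ncard = 280 ∧
    {y | y ∈ octads ∧ (setOf24 cOctX ∩ y).card = 2}.ncard = 448 :=
  ⟨octad_meet_card 8 1 (by decide +kernel), octad_meet_card 0 30 (by decide +kernel),
    octad_meet_card 4 280 (by decide +kernel), octad_meet_card 2 448 (by decide +kernel)⟩

theorem octad_meet_cases {o : Finset GolayPt} (ho : o ∈ octads) :
    (setOf24 cOctX ∩ o).card ∈ [8, 0, 4, 2] := by
  have key : (codeSel isOct).all (fun M => [8, 0, 4, 2].contains (wt (cOctX &&& M))) = true := by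
    decide +kernel
  have := List.all_eq_true.1 key _ (mem_codeSel ho.1 (isOct_maskOf ho))
  rwa [List.contains_iff_mem, wt_and_maskOf] at this

theorem isCoatom_octad {o : Finset GolayPt} (ho : o ∈ octads) :
    IsCoatom (MulAction.stabilizer ↥M24 o) := by
  refine isCoatom_of_moves (exists_octad_map ho) ?_
  refine isCoatom_stabilizer (setOf24 cOctX) (fun y => (setOf24 cOctX ∩ y).card)
    [(8, 1), (0, 30), (4, 280), (2, 448)] (by decide) ?_ ?_ ?_ ?_ (by decide) (by decide)
  · intro y hy z hz h
    rw [octads_orbit] at hy hz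
    exact orbit_of_moves (moves_HO hy hz h)
  · intro y hy h
    rw [octads_orbit] at hy
    rw [Finset.inter_self, stdOct_mem.2] at h
    exact octads_eq_of_five_le hy stdOct_mem (by rw [Finset.inter_comm, h]; norm_num)
  · intro y hy
    rw [octads_orbit] at hy
    exact octad_meet_cases hy
  · intro c hc
    rw [octads_orbit]
    obtain ⟨h8, h0, h4, h2⟩ := octad_meet_counts
    simp only [List.mem_cons, List.not_mem_nil, or_false] at hc
    rcases hc with rfl | rfl | rfl | rfl
    exacts [h8, h0, h4, h2]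

/-- Two octads meeting an octad equally are moved into each other by its stabiliser. -/
theorem exists_octad_stab {o o' o'' : Finset GolayPt} (ho : o ∈ octads) (ho' : o' ∈ octads)
    (ho'' : o'' ∈ octads) (h : (o ∩ o').card = (o ∩ o'').card) :
    ∃ g : Equiv.Perm GolayPt, g ∈ M24 ∧ g • o = o ∧ g • o' = o'' := by
  obtain ⟨σ, hσ, rfl⟩ := exists_octad_map ho
  have hm := moves_HO ((smul_mem_wordsOfWeight_iff (inv_mem hσ) 8 o').2 ho')
    ((smul_mem_wordsOfWeight_iff (inv_mem hσ) 8 o'').2 ho'')
    (by rw [← card_smul_inter σ, smul_inv_smul, ← card_smul_inter σ (setOf24 cOctX) (σ⁻¹ • o''),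
      smul_inv_smul]; exact h)
  obtain ⟨τ, hτ, e⟩ := moves_conj hm
  exact ⟨σ * τ * σ⁻¹, mul_mem (mul_mem hσ hτ.1) (inv_mem hσ), conj_fix rfl hτ.2, e⟩

theorem card_HO : Nat.card HO = 322560 := by
  have h := card_stabilizer_of_orbit (x := setOf24 cOctX) (N := 759)
    (by rw [octads_orbit]; exact ncard_octads)
  change 759 * Nat.card HO = 244823040 at h
  omega

theorem card_stab_octad {o : Finset GolayPt} (ho : o ∈ octads) :
    Nat.card ↥(M24 ⊓ MulAction.stabilizer (Equiv.Perm GolayPt) o) = 322560 := by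
  have horb : MulAction.orbit ↥M24 o = octads := by
    rw [← octads_orbit]
    exact MulAction.orbit_eq_iff.2 (moves_iff_mem_orbit.1 (exists_octad_map ho))
  have h := card_stabilizer_of_orbit (x := o) (N := 759) (by rw [horb]; exact ncard_octads)
  omega

end CfsgLib.GolayOrbits
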