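import Cfsg.Agent.GolayOrbits.Stab

/-!
The stabilisers of two and of three points in `Cfsg.M24` (as sets), acting on the pairs and triples.
-/

set_option autoImplicit false

namespace CfsgLib.GolayOrbits

open Cfsg CfsgLib.Mathieu CfsgLib.GolayConfig
open scoped Pointwise

/-- An enumeration of all sets of a given size by indices lists each once. -/
theorem enum_powerset (get : ℕ → ℕ) (idxs : List ℕ) (k : ℕ)
    (hlen : idxs.length = Nat.choose 24 k) (hw : idxs.all (fun i => wt (get i) == k) = true)
    (hex : ∀ s : Finset GolayPt, s.card = k → ∃ i ∈ idxs, setOf24 (get i) = s) :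
    idxs.Nodup ∧ Set.InjOn (fun i => setOf24 (get i)) {i | i ∈ idxs} ∧
      {s : Finset GolayPt | s.card = k} = (fun i => setOf24 (get i)) '' {i | i ∈ idxs} := by
  classical
  have hcard : ∀ i ∈ idxs, (setOf24 (get i)).card = k := fun i hi => by
    rw [card_setOf24]; exact beq_iff_eq.1 (List.all_eq_true.1 hw i hi)
  have himg : idxs.toFinset.image (fun i => setOf24 (get i)) =
      (Finset.univ : Finset GolayPt).powersetCard k := by
    ext s
    simp only [Finset.mem_image, List.mem_toFinset, Finset.mem_powersetCard, Finset.subset_univ,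
      true_and]
    exact ⟨fun ⟨i, hi, e⟩ => e ▸ hcard i hi, hex s⟩
  have hn : (idxs.toFinset.image fun i => setOf24 (get i)).card = Nat.choose 24 k := by
    rw [himg, Finset.card_powersetCard, Finset.card_univ,
      show Fintype.card GolayPt = 24 by simp [ZMod.card]]
  have h1 := Finset.card_image_le (s := idxs.toFinset) (f := fun i => setOf24 (get i))
  have h2 := List.toFinset_card_le idxs
  refine ⟨List.dedup_eq_self.1 ((List.dedup_sublist idxs).eq_of_length (by rw [← List.card_toFinset]; omega)), ?_, ?_⟩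
  · have := Finset.injOn_of_card_image_eq (s := idxs.toFinset) (f := fun i => setOf24 (get i)) (by omega)
    intro a ha b hb e
    exact this (List.mem_toFinset.2 ha) (List.mem_toFinset.2 hb) e
  · ext s
    simp only [Set.mem_ofPred_eq, Set.mem_image]
    exact ⟨hex s, fun ⟨i, hi, e⟩ => e ▸ hcard i hi⟩

theorem exists_perm_sets {s t : Finset GolayPt} (h : s.card = t.card) (h5 : s.card ≤ 5) :
    Moves M24 s t := by
  classical
  haveI := M24_isMultiplyPretransitive h5
  let es : Fin s.card ↪ GolayPt := s.equivFin.symm.toEmbedding.trans (Function.Embedding.subtype _)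
  let et : Fin s.card ↪ GolayPt :=
    (t.equivFinOfCardEq h.symm).symm.toEmbedding.trans (Function.Embedding.subtype _)
  obtain ⟨g, hg⟩ := MulAction.exists_smul_eq ↥M24 es et
  refine ⟨g.1, g.2, Finset.eq_of_subset_of_card_le ?_ (by rw [Finset.card_smul_finset, h])⟩
  intro x hx
  obtain ⟨y, hy, rfl⟩ := Finset.mem_smul_finset.1 hx
  obtain ⟨i, hi⟩ : ∃ i, es i = y := ⟨s.equivFin ⟨y, hy⟩, by simp [es]⟩
  have : (g.1 : Equiv.Perm GolayPt) • y = et i := by rw [← hi, ← hg]; rfl
  rw [this]
  exact ((t.equivFinOfCardEq h.symm).symm i).2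

theorem sets_orbit (s : Finset GolayPt) (h5 : s.card ≤ 5) :
    MulAction.orbit ↥M24 s = {t : Finset GolayPt | t.card = s.card} := by
  ext t
  refine ⟨?_, fun h => moves_iff_mem_orbit.1 (exists_perm_sets h.symm h5)⟩
  rintro ⟨g, rfl⟩
  exact Finset.card_smul_finset _ _

/-! ### Pairs -/

/-- The stabiliser of the standard pair. -/
def HP : Subgroup (Equiv.Perm GolayPt) := cut M24 setCoding (3 : ℕ)

theorem gensHP : ∀ t ∈ gPair, InGroup enc HP t :=
  inGroup_of_checks (inGroup_of_isM24 (by decide +kernel)) (by decide +kernel)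

/-- The meeting with the standard pair, on codes. -/
def pairKeyM (M : ℕ) : ℕ := wt (3 &&& M)

theorem pair_orbits_ok :
    orbitsOK setCoding gPair pairGet pairKeyM pairStepsClasses pairIdx = true := by decide +kernel

theorem pairIdx_spec :
    pairIdx.Nodup ∧ Set.InjOn (fun i => setOf24 (pairGet i)) {i | i ∈ pairIdx} ∧
      {s : Finset GolayPt | s.card = 2} = (fun i => setOf24 (pairGet i)) '' {i | i ∈ pairIdx} :=
  enum_powerset pairGet pairIdx 2 (by decide +kernel) (by decide +kernel) fun _ => exists_pairIdx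

theorem std_pair_card : (setOf24 3).card = 2 := by decide +kernel

theorem isCoatom_pair {s : Finset GolayPt} (hs : s.card = 2) :
    IsCoatom (MulAction.stabilizer ↥M24 s) := by
  refine isCoatom_of_moves (exists_perm_sets (s := setOf24 3) (std_pair_card.trans hs.symm)
    (std_pair_card.le.trans (by norm_num))) ?_
  have horb := sets_orbit (setOf24 3) (std_pair_card.le.trans (by norm_num))
  rw [std_pair_card] at horb
  obtain ⟨hnd, hinj, himg⟩ := pairIdx_spec
  have hkey : ∀ i ∈ pairIdx, (setOf24 3 ∩ setOf24 (pairGet i)).card = pairKeyM (pairGet i) :=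
    fun i _ => by rw [pairKeyM, ← setOf24_and, card_setOf24]
  refine isCoatom_stabilizer (setOf24 3) (fun y => (setOf24 3 ∩ y).card)
    [(2, 1), (1, 44), (0, 231)] (by decide) ?_ ?_ ?_ ?_ (by decide) (by decide)
  · intro y hy z hz h
    rw [horb, himg] at hy hz
    obtain ⟨i, hi, rfl⟩ := hy
    obtain ⟨j, hj, rfl⟩ := hz
    simp only [hkey i hi, hkey j hj] at h
    exact orbit_of_moves (moves_keys (C := setCoding) gensHP pair_orbits_ok hi hj h)
  · intro y hy h
    rw [horb] at hy
    rw [Finset.inter_self, std_pair_card] at h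
    have h1 : setOf24 3 ∩ y = setOf24 3 :=
      Finset.eq_of_subset_of_card_le Finset.inter_subset_left (by rw [h, std_pair_card])
    exact (Finset.eq_of_subset_of_card_le (Finset.inter_eq_left.1 h1)
      (by rw [hy, std_pair_card])).symm
  · intro y hy
    rw [horb] at hy
    have := Finset.card_le_card (Finset.inter_subset_right : setOf24 3 ∩ y ⊆ y)
    rw [show y.card = 2 from hy] at this
    have hlt : (setOf24 3 ∩ y).card < 3 := by omega
    revert hlt
    generalize (setOf24 3 ∩ y).card = n
    intro hlt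
    interval_cases n <;> decide
  · intro c hc
    rw [horb, ncard_indexed (C := setCoding) (get := pairGet) (keyC := pairKeyM) himg hinj hnd hkey]
    revert c
    decide +kernel

/-! ### Triples -/

/-- The stabiliser of the standard triad. -/
def HT : Subgroup (Equiv.Perm GolayPt) := cut M24 setCoding (7 : ℕ)

theorem gensHT : ∀ t ∈ gTriad, InGroup enc HT t :=
  inGroup_of_checks (inGroup_of_isM24 (by decide +kernel)) (by decide +kernel)

theorem triadOctads_eq : (codeSel fun M => isOct M && 7 &&& M == 7) = triadOctads := by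
  decide +kernel

/-- The meeting with the standard triad, and whether a common octad holds both, on codes. -/
def triKeyM (M : ℕ) : ℕ :=
  wt (7 &&& M) +
    if 7 &&& M == 0 && triadOctads.any (fun o => (7 ||| M) &&& o == 7 ||| M) then 4 else 0

open Classical in
/-- The meeting with a triad, and whether a common octad holds both. -/
noncomputable def triKey (T U : Finset GolayPt) : ℕ :=
  (T ∩ U).card + if Disjoint T U ∧ ∃ o ∈ octads, T ∪ U ⊆ o then 4 else 0

theorem triKey_std {M : ℕ} (hM : M < 2 ^ 24) : triKey (setOf24 7) (setOf24 M) = triKeyM M := by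
  classical
  rw [triKey, triKeyM, ← setOf24_and, card_setOf24]
  congr 1
  have h7M : 7 ||| M < 2 ^ 24 := Nat.or_lt_two_pow (by norm_num) hM
  refine if_congr ?_ rfl rfl
  rw [Bool.and_eq_true, beq_iff_eq, List.any_eq_true]
  refine and_congr ⟨fun h => ?_, fun h => ?_⟩ ?_
  · exact setOf24_inj (Nat.lt_of_le_of_lt Nat.and_le_left (by norm_num)) (Nat.two_pow_pos _)
      (by rw [setOf24_and, setOf24_zero, Finset.disjoint_iff_inter_eq_empty.1 h])
  · rw [Finset.disjoint_iff_inter_eq_empty, ← setOf24_and, h, setOf24_zero]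
  rw [← setOf24_or, ← triadOctads_eq]
  constructor
  · rintro ⟨o, ho, hsub⟩
    have hmask : (7 ||| M) &&& maskOf o = 7 ||| M :=
      setOf24_inj (Nat.lt_of_le_of_lt Nat.and_le_left h7M) h7M
        (by rw [setOf24_and, setOf24_maskOf]; exact Finset.inter_eq_left.2 hsub)
    refine ⟨maskOf o, mem_codeSel ho.1 ?_, beq_iff_eq.2 hmask⟩
    rw [Bool.and_eq_true, beq_iff_eq]
    refine ⟨isOct_maskOf ho, setOf24_inj (Nat.lt_of_le_of_lt Nat.and_le_left (by norm_num))
      (by norm_num) ?_⟩
    rw [setOf24_and, setOf24_maskOf]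
    refine Finset.inter_eq_left.2 ?_
    rw [setOf24_or] at hsub
    exact Finset.union_subset_left hsub
  · rintro ⟨o, ho, he⟩
    obtain ⟨hc, h8⟩ := List.mem_filter.1 ho
    rw [Bool.and_eq_true] at h8
    refine ⟨setOf24 o, setOf24_mem_wordsOfWeight (mem_codeWords.1 hc) (beq_iff_eq.1 h8.1), ?_⟩
    rw [← Finset.inter_eq_left, ← setOf24_and, beq_iff_eq.1 he]

theorem triKey_smul {σ : Equiv.Perm GolayPt} (hσ : σ ∈ M24) (T U : Finset GolayPt) :
    triKey (σ • T) (σ • U) = triKey T U := by
  classical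
  rw [triKey, triKey, card_smul_inter]
  congr 1
  refine if_congr (and_congr ?_ ⟨fun ⟨o, ho, h⟩ => ?_, fun ⟨o, ho, h⟩ => ?_⟩) rfl rfl
  · rw [Finset.disjoint_iff_inter_eq_empty, Finset.disjoint_iff_inter_eq_empty,
      ← Finset.card_eq_zero, card_smul_inter, Finset.card_eq_zero]
  · refine ⟨σ⁻¹ • o, (smul_mem_wordsOfWeight_iff (inv_mem hσ) 8 o).2 ho, ?_⟩
    rw [← inv_smul_smul σ (T ∪ U), Finset.smul_finset_union]
    exact Finset.smul_finset_subset_smul_finset h
  · refine ⟨σ • o, (smul_mem_wordsOfWeight_iff hσ 8 o).2 ho, ?_⟩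
    rw [← Finset.smul_finset_union]
    exact Finset.smul_finset_subset_smul_finset h

theorem tri_orbits_ok :
    orbitsOK setCoding gTriad triGet triKeyM triadStepsClasses triIdx = true := by decide +kernel

theorem triIdx_spec :
    triIdx.Nodup ∧ Set.InjOn (fun i => setOf24 (triGet i)) {i | i ∈ triIdx} ∧
      {s : Finset GolayPt | s.card = 3} = (fun i => setOf24 (triGet i)) '' {i | i ∈ triIdx} :=
  enum_powerset triGet triIdx 3 (by decide +kernel) (by decide +kernel) fun _ => exists_triIdx

theorem triGet_lt {i : ℕ} (hi : i ∈ triIdx) : triGet i < 2 ^ 24 := by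
  have : triIdx.all (fun i => Nat.blt (triGet i) 16777216) = true := by decide +kernel
  simpa [Nat.blt_eq] using List.all_eq_true.1 this i hi

theorem std_triad_card : (setOf24 7).card = 3 := by decide +kernel

theorem tri_counts (v : ℕ) :
    {U : Finset GolayPt | U.card = 3 ∧ triKey (setOf24 7) U = v}.ncard =
      (triIdx.filter fun i => triKeyM (triGet i) == v).length := by
  obtain ⟨hnd, hinj, himg⟩ := triIdx_spec
  exact ncard_indexed (C := setCoding) (get := triGet) (keyC := triKeyM) himg hinj hnd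
    (fun i hi => triKey_std (triGet_lt hi)) v

theorem tri_count_values :
    (triIdx.filter fun i => triKeyM (triGet i) == 4).length = 210 ∧
    (triIdx.filter fun i => triKeyM (triGet i) == 0).length = 1120 ∧
    (triIdx.filter fun i => triKeyM (triGet i) == 3).length = 1 ∧
    (triIdx.filter fun i => triKeyM (triGet i) == 2).length = 63 ∧
    (triIdx.filter fun i => triKeyM (triGet i) == 1).length = 630 := by decide +kernel

theorem moves_HT {U U' : Finset GolayPt} (hU : U.card = 3) (hU' : U'.card = 3)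
    (h : triKey (setOf24 7) U = triKey (setOf24 7) U') : Moves HT U U' := by
  obtain ⟨-, -, himg⟩ := triIdx_spec
  obtain ⟨i, hi, rfl⟩ : U ∈ (fun i => setOf24 (triGet i)) '' {i | i ∈ triIdx} := himg ▸ hU
  obtain ⟨j, hj, rfl⟩ : U' ∈ (fun i => setOf24 (triGet i)) '' {i | i ∈ triIdx} := himg ▸ hU'
  rw [triKey_std (triGet_lt hi), triKey_std (triGet_lt hj)] at h
  exact moves_keys (C := setCoding) gensHT tri_orbits_ok hi hj h

theorem isCoatom_triad {s : Finset GolayPt} (hs : s.card = 3) :
    IsCoatom (MulAction.stabilizer ↥M24 s) := by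
  refine isCoatom_of_moves (exists_perm_sets (s := setOf24 7) (std_triad_card.trans hs.symm)
    (std_triad_card.le.trans (by norm_num))) ?_
  have horb := sets_orbit (setOf24 7) (std_triad_card.le.trans (by norm_num))
  rw [std_triad_card] at horb
  obtain ⟨c4, c0, c3, c2, c1⟩ := tri_count_values
  refine isCoatom_stabilizer (setOf24 7) (triKey (setOf24 7))
    [(3, 1), (2, 63), (1, 630), (4, 210), (0, 1120)] (by decide) ?_ ?_ ?_ ?_ (by decide) (by decide)
  · intro y hy z hz h
    rw [horb] at hy hz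
    exact orbit_of_moves (moves_HT hy hz h)
  · intro y hy h
    rw [horb] at hy
    have hx : triKey (setOf24 7) (setOf24 7) = 3 := by
      rw [triKey, Finset.inter_self, std_triad_card,
        if_neg (fun hh => (Finset.card_pos.1 (by rw [std_triad_card]; norm_num)).ne_empty
          (disjoint_self.1 hh.1))]
    obtain ⟨t, ht⟩ := Set.ncard_eq_one.1 ((tri_counts 3).trans c3)
    have h2 : y ∈ ({t} : Set (Finset GolayPt)) := ht ▸ ⟨hy, h.trans hx⟩
    have h3 : setOf24 7 ∈ ({t} : Set (Finset GolayPt)) := ht ▸ ⟨std_triad_card, hx⟩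
    rw [Set.mem_singleton_iff] at h2 h3
    rw [h2, h3]
  · intro y hy
    rw [horb] at hy
    obtain ⟨-, -, himg⟩ := triIdx_spec
    obtain ⟨i, hi, rfl⟩ : y ∈ (fun i => setOf24 (triGet i)) '' {i | i ∈ triIdx} := himg ▸ hy
    have key : triIdx.all (fun i => [3, 2, 1, 4, 0].contains (triKeyM (triGet i))) = true := by
      decide +kernel
    rw [triKey_std (triGet_lt hi)]
    exact List.contains_iff_mem.1 (List.all_eq_true.1 key i hi)
  · intro c hc
    rw [horb]
    refine (tri_counts c.1).trans ?_
    simp only [List.mem_cons, List.not_mem_nil, or_false] at hc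
    rcases hc with rfl | rfl | rfl | rfl | rfl
    exacts [c3, c2, c1, c4, c0]

/-- The two orbits of a triad stabiliser on the triads disjoint from it. -/
theorem triad_disjoint_orbits {T : Finset GolayPt} (hT : T.card = 3) :
    {U : Finset GolayPt | U.card = 3 ∧ Disjoint T U ∧ (∃ o ∈ octads, T ∪ U ⊆ o)}.ncard = 210 ∧
    {U : Finset GolayPt | U.card = 3 ∧ Disjoint T U ∧ ¬ (∃ o ∈ octads, T ∪ U ⊆ o)}.ncard = 1120 ∧
    ∀ U U' : Finset GolayPt, U.card = 3 → U'.card = 3 → Disjoint T U → Disjoint T U' →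
      ((∃ o ∈ octads, T ∪ U ⊆ o) ↔ (∃ o ∈ octads, T ∪ U' ⊆ o)) →
      ∃ g : Equiv.Perm GolayPt, g ∈ M24 ∧ g • T = T ∧ g • U = U' := by
  classical
  obtain ⟨σ, hσ, rfl⟩ := exists_perm_sets (s := setOf24 7) (std_triad_card.trans hT.symm)
    (std_triad_card.le.trans (by norm_num))
  obtain ⟨c4, c0, -, -, -⟩ := tri_count_values
  set T₀ := setOf24 7 with hT₀
  have k4 : ∀ T U : Finset GolayPt, U.card = 3 → T.card = 3 →
      (triKey T U = 4 ↔ Disjoint T U ∧ ∃ o ∈ octads, T ∪ U ⊆ o) := by
    intro T U hU hT'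
    have := Finset.card_le_card (Finset.inter_subset_right : T ∩ U ⊆ U)
    rw [triKey]
    by_cases h : Disjoint T U ∧ ∃ o ∈ octads, T ∪ U ⊆ o
    · rw [if_pos h, Finset.disjoint_iff_inter_eq_empty.1 h.1, Finset.card_empty]
      exact iff_of_true rfl h
    · rw [if_neg h]
      exact iff_of_false (by omega) h
  have k0 : ∀ T U : Finset GolayPt,
      (triKey T U = 0 ↔ Disjoint T U ∧ ¬ ∃ o ∈ octads, T ∪ U ⊆ o) := by
    intro T U
    have hd : Disjoint T U ↔ (T ∩ U).card = 0 := by
      rw [Finset.disjoint_iff_inter_eq_empty, Finset.card_eq_zero]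
    rw [triKey]
    split_ifs with h
    · exact iff_of_false not_false (fun h' => h'.2 h.2)
    · exact ⟨fun h0 => ⟨hd.2 (by omega), fun h' => h ⟨hd.2 (by omega), h'⟩⟩,
        fun h' => by have := hd.1 h'.1; omega⟩
  refine ⟨?_, ?_, fun U U' hU hU' hd hd' hiff => ?_⟩
  · rw [← (tri_counts 4).trans c4]
    refine ncard_transport σ _ _ fun U => ?_
    rw [Finset.card_smul_finset]
    refine and_congr_right fun hU => ?_
    rw [← triKey_smul hσ T₀ U, k4 _ _ (by rw [Finset.card_smul_finset, hU])
      (by rw [Finset.card_smul_finset]; exact std_triad_card)]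
  · rw [← (tri_counts 0).trans c0]
    refine ncard_transport σ _ _ fun U => ?_
    rw [Finset.card_smul_finset]
    refine and_congr_right fun hU => ?_
    rw [← triKey_smul hσ T₀ U, k0]
  · have hT3 : (σ • T₀).card = 3 := by rw [Finset.card_smul_finset]; exact std_triad_card
    have hkey : triKey (σ • T₀) U = triKey (σ • T₀) U' := by
      by_cases h : ∃ o ∈ octads, σ • T₀ ∪ U ⊆ o
      · rw [(k4 _ U hU hT3).2 ⟨hd, h⟩, (k4 _ U' hU' hT3).2 ⟨hd', hiff.1 h⟩]
      · rw [(k0 _ U).2 ⟨hd, h⟩, (k0 _ U').2 ⟨hd', fun h' => h (hiff.2 h')⟩]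
    rw [← smul_inv_smul σ U, ← smul_inv_smul σ U', triKey_smul hσ, triKey_smul hσ] at hkey
    obtain ⟨τ, hτ, e⟩ := moves_conj (moves_HT
      ((Finset.card_smul_finset _ _).trans hU) ((Finset.card_smul_finset _ _).trans hU') hkey)
    exact ⟨σ * τ * σ⁻¹, mul_mem (mul_mem hσ hτ.1) (inv_mem hσ), conj_fix rfl hτ.2, e⟩

end CfsgLib.GolayOrbits
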