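import Cfsg.Agent.GolayOrbits.Families
import Cfsg.Agent.S1550

/-!
The stabiliser of a sextet in `Cfsg.M24`: its four orbits on the sextets, and maximality.
-/

set_option autoImplicit false

namespace CfsgLib.GolayOrbits

open Cfsg CfsgLib.Mathieu CfsgLib.GolayConfig CfsgLib.M24Classes
open scoped Pointwise

/-- The standard sextet. -/
def cSext : List ℕ := [8388615, 147496, 268544, 1082880, 2621632, 4268048]

/-- The sextet data in pieces. -/
def sextChunks : List (List (List ℕ)) := chunksOf 45 sextetData 40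

/-- The sextet with a given index. -/
def sextGet (i : ℕ) : List ℕ := (sextChunks.getD (i / 45) []).getD (i % 45) []

/-- The indices of the sextets. -/
@[irreducible] def sextIdx : List ℕ := List.range 1771

theorem sextIdx_nodup : sextIdx.Nodup := by
  unfold sextIdx
  exact List.nodup_range (n := 1771)

theorem mem_sextIdx {i : ℕ} (h : i < 1771) : i ∈ sextIdx := by
  unfold sextIdx
  exact (List.mem_range (n := 1771)).2 h

theorem sextGet_map : sextIdx.map sextGet = sextetData := by decide +kernel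

/-- The stabiliser of the standard sextet. -/
def HS6 : Subgroup (Equiv.Perm GolayPt) := cut M24 famCoding cSext

theorem gensHS6 : ∀ t ∈ gSext, InGroup enc HS6 t :=
  inGroup_of_checks (inGroup_of_isM24 (by decide +kernel)) (by decide +kernel)

theorem sext_orbits_ok :
    orbitsOK famCoding gSext sextGet (keyFamL cSext) sextStepsClasses (sextIdx) = true := by
  decide +kernel

theorem sextGet_mem {i : ℕ} (hi : i ∈ sextIdx) : sextGet i ∈ sextetData := by
  rw [← sextGet_map]; exact List.mem_map_of_mem hi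

theorem sextets_indexed :
    sextets = (fun i => famSet (sextGet i)) '' {i | i ∈ sextIdx} := by
  rw [sextets_eq_image]
  ext F
  simp only [Set.mem_image, Set.mem_ofPred_eq]
  constructor
  · rintro ⟨l, hl, rfl⟩
    rw [← sextGet_map] at hl
    obtain ⟨i, hi, rfl⟩ := List.mem_map.1 hl
    exact ⟨i, hi, rfl⟩
  · rintro ⟨i, hi, rfl⟩
    exact ⟨_, sextGet_mem hi, rfl⟩

theorem sextGet_injOn : Set.InjOn (fun i => famSet (sextGet i)) {i | i ∈ sextIdx} :=
  fun i hi j hj h =>
    List.inj_on_of_nodup_map (by rw [sextGet_map]; exact sextetData_nodup) hi hj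
      (sextetData_injOn (sextGet_mem hi) (sextGet_mem hj) h)

theorem cSext_mem : famSet cSext ∈ sextets := by
  rw [sextets_eq_image]
  exact ⟨cSext, List.mem_of_getElem? (i := 0) (by decide +kernel), rfl⟩

theorem sext_card {l : List ℕ} (hl : l ∈ sextetData) : (famSet l).card = l.length := by
  have h := sextetData_ok l hl
  simp only [sextetOK, Bool.and_eq_true, beq_iff_eq] at h
  rw [(sextet_entry hl).1.1, h.1.1.1.1]

theorem sext_key {i : ℕ} (hi : i ∈ sextIdx) :
    meetSq (famSet cSext) (famSet (sextGet i)) = keyFamL cSext (sextGet i) :=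
  meetSq_famSet (by rw [cSext_mem.1]; rfl) (sext_card (sextGet_mem hi))

theorem exists_sextet_map {S : Finset (Finset GolayPt)} (hS : S ∈ sextets) :
    Moves M24 (famSet cSext) S := by
  obtain ⟨t, ht⟩ : S.Nonempty := Finset.card_pos.1 (by rw [hS.1]; norm_num)
  have ht₀ : setOf24 (cSext.getD 0 0) ∈ famSet cSext := mem_famSet.2 ⟨_, by decide +kernel, rfl⟩
  have h4 := cSext_mem.2.1 _ ht₀
  obtain ⟨g, hg, hgt⟩ : Moves M24 (setOf24 (cSext.getD 0 0)) t := by
    haveI := M24_isMultiplyPretransitive (show 4 ≤ 5 by norm_num)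
    classical
    let es : Fin 4 ↪ GolayPt := ((setOf24 (cSext.getD 0 0)).equivFinOfCardEq h4).symm.toEmbedding.trans
      (Function.Embedding.subtype _)
    let et : Fin 4 ↪ GolayPt := (t.equivFinOfCardEq (hS.2.1 t ht)).symm.toEmbedding.trans
      (Function.Embedding.subtype _)
    obtain ⟨g, hg⟩ := MulAction.exists_smul_eq ↥M24 es et
    refine ⟨g.1, g.2, Finset.eq_of_subset_of_card_le ?_
      (by rw [Finset.card_smul_finset, h4, hS.2.1 t ht])⟩
    intro x hx
    obtain ⟨y, hy, rfl⟩ := Finset.mem_smul_finset.1 hx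
    obtain ⟨i, hi⟩ : ∃ i, es i = y :=
      ⟨(setOf24 (cSext.getD 0 0)).equivFinOfCardEq h4 ⟨y, hy⟩, by simp [es]⟩
    have : (g.1 : Equiv.Perm GolayPt) • y = et i := by rw [← hi, ← hg]; rfl
    rw [this]
    exact ((t.equivFinOfCardEq (hS.2.1 t ht)).symm i).2
  refine ⟨g, hg, (Cfsg.Agent.S1550.result.1 t (hS.2.1 t ht)).unique
    ⟨smul_mem_sextets hg cSext_mem, ?_⟩ ⟨hS, ht⟩⟩
  rw [← hgt]
  exact Finset.smul_mem_smul_finset ht₀

theorem sextets_orbit : MulAction.orbit ↥M24 (famSet cSext) = sextets := by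
  ext S
  refine ⟨?_, fun h => moves_iff_mem_orbit.1 (exists_sextet_map h)⟩
  rintro ⟨g, rfl⟩
  exact smul_mem_sextets g.2 cSext_mem

theorem moves_HS6 {S R : Finset (Finset GolayPt)} (hS : S ∈ sextets) (hR : R ∈ sextets)
    (h : meetSq (famSet cSext) S = meetSq (famSet cSext) R) : Moves HS6 S R := by
  rw [sextets_indexed] at hS hR
  obtain ⟨i, hi, rfl⟩ := hS
  obtain ⟨j, hj, rfl⟩ := hR
  simp only [sext_key hi, sext_key hj] at h
  exact moves_keys (C := famCoding) gensHS6 sext_orbits_ok hi hj h

theorem sext_count_values :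
    (sextIdx.filter fun i => keyFamL cSext (sextGet i) == 96).length = 1 ∧
    (sextIdx.filter fun i => keyFamL cSext (sextGet i) == 48).length = 90 ∧
    (sextIdx.filter fun i => keyFamL cSext (sextGet i) == 36).length = 240 ∧
    (sextIdx.filter fun i => keyFamL cSext (sextGet i) == 32).length = 1440 := by
  decide +kernel

theorem sext_counts (v : ℕ) :
    {S | S ∈ sextets ∧ meetSq (famSet cSext) S = v}.ncard =
      (sextIdx.filter fun i => keyFamL cSext (sextGet i) == v).length :=
  ncard_indexed (C := famCoding) (get := sextGet) (keyC := keyFamL cSext) sextets_indexed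
    sextGet_injOn sextIdx_nodup (fun _ hi => sext_key hi) v

theorem sext_key_cases {S : Finset (Finset GolayPt)} (hS : S ∈ sextets) :
    meetSq (famSet cSext) S ∈ [96, 48, 36, 32] := by
  have key : sextIdx.all
      (fun i => [96, 48, 36, 32].contains (keyFamL cSext (sextGet i))) = true := by decide +kernel
  rw [sextets_indexed] at hS
  obtain ⟨i, hi, rfl⟩ := hS
  rw [sext_key hi]
  exact List.contains_iff_mem.1 (List.all_eq_true.1 key i hi)

theorem sext_key_self {S : Finset (Finset GolayPt)} (hS : S ∈ sextets) :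
    meetSq (famSet cSext) S = 96 ↔ S = famSet cSext := by
  have hx : meetSq (famSet cSext) (famSet cSext) = 96 := by
    rw [meetSq_famSet (by rw [cSext_mem.1]; rfl) (by rw [cSext_mem.1]; rfl)]
    decide +kernel
  refine ⟨fun h => ?_, fun h => h ▸ hx⟩
  obtain ⟨t, ht⟩ := Set.ncard_eq_one.1 ((sext_counts 96).trans sext_count_values.1)
  have h2 : S ∈ ({t} : Set (Finset (Finset GolayPt))) := ht ▸ ⟨hS, h⟩
  have h3 : famSet cSext ∈ ({t} : Set (Finset (Finset GolayPt))) := ht ▸ ⟨cSext_mem, hx⟩
  rw [Set.mem_singleton_iff] at h2 h3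
  rw [h2, h3]

theorem isCoatom_cSext : IsCoatom (MulAction.stabilizer ↥M24 (famSet cSext)) := by
  obtain ⟨c1, c90, c240, c1440⟩ := sext_count_values
  refine isCoatom_stabilizer (famSet cSext) (meetSq (famSet cSext))
    [(96, 1), (48, 90), (36, 240), (32, 1440)] (by decide) ?_ ?_ ?_ ?_ (by decide) (by decide)
  · intro y hy z hz h
    rw [sextets_orbit] at hy hz
    exact orbit_of_moves (moves_HS6 hy hz h)
  · intro y hy h
    rw [sextets_orbit] at hy
    exact (sext_key_self hy).1 (h.trans ((sext_key_self cSext_mem).2 rfl))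
  · intro y hy
    rw [sextets_orbit] at hy
    exact sext_key_cases hy
  · intro c hc
    rw [sextets_orbit, sext_counts]
    simp only [List.mem_cons, List.not_mem_nil, or_false] at hc
    rcases hc with rfl | rfl | rfl | rfl
    exacts [c1, c90, c240, c1440]

/-- The four orbits of a sextet stabiliser on the sextets, and its maximality. -/
theorem sextet_orbits {S : Finset (Finset GolayPt)} (hS : S ∈ sextets) :
    ∃ X₁ ∈ sextets, ∃ X₂ ∈ sextets, ∃ X₃ ∈ sextets,
      (MulAction.orbit ↥(MulAction.stabilizer M24 S) X₁).ncard = 90 ∧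
      (MulAction.orbit ↥(MulAction.stabilizer M24 S) X₂).ncard = 240 ∧
      (MulAction.orbit ↥(MulAction.stabilizer M24 S) X₃).ncard = 1440 ∧
      sextets = {S} ∪ MulAction.orbit ↥(MulAction.stabilizer M24 S) X₁ ∪
        MulAction.orbit ↥(MulAction.stabilizer M24 S) X₂ ∪
        MulAction.orbit ↥(MulAction.stabilizer M24 S) X₃ ∧
      IsCoatom (MulAction.stabilizer M24 S) := by
  obtain ⟨σ, hσ, rfl⟩ := exists_sextet_map hS
  set g : ↥M24 := ⟨σ, hσ⟩
  have hgS : σ • famSet cSext = g • famSet cSext := rfl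
  obtain ⟨-, c90, c240, c1440⟩ := sext_count_values
  have hmem : ∀ i ∈ sextIdx, famSet (sextGet i) ∈ sextets := fun i hi =>
    sextets_indexed ▸ Set.mem_image_of_mem _ hi
  have horb : ∀ i ∈ sextIdx, ∀ v, keyFamL cSext (sextGet i) = v →
      MulAction.orbit (MulAction.stabilizer ↥M24 (famSet cSext)) (famSet (sextGet i)) =
        {S | S ∈ sextets ∧ meetSq (famSet cSext) S = v} := fun i hi v hv => by
    rw [stabilizer_orbits sextets_orbit (meetSq (famSet cSext))
      (fun h hh y => by
        conv_lhs => rw [← (MulAction.mem_stabilizer_iff.1 hh : h • famSet cSext = famSet cSext)]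
        exact meetSq_smul h.1 _ y)
      (fun y hy z hz h => moves_HS6 hy hz h) (hmem i hi), sext_key hi, hv]
  have h13 : (13 : ℕ) ∈ sextIdx := mem_sextIdx (by norm_num)
  have h1 : (1 : ℕ) ∈ sextIdx := mem_sextIdx (by norm_num)
  have h7 : (7 : ℕ) ∈ sextIdx := mem_sextIdx (by norm_num)
  have e1 := horb 13 h13 48 (by decide +kernel)
  have e2 := horb 1 h1 36 (by decide +kernel)
  have e3 := horb 7 h7 32 (by decide +kernel)
  refine ⟨g • famSet (sextGet 13), smul_mem_sextets hσ (hmem 13 h13),
    g • famSet (sextGet 1), smul_mem_sextets hσ (hmem 1 h1),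
    g • famSet (sextGet 7), smul_mem_sextets hσ (hmem 7 h7), ?_, ?_, ?_, ?_, ?_⟩
  · rw [hgS, ncard_orbit_stabilizer_smul, e1, sext_counts, c90]
  · rw [hgS, ncard_orbit_stabilizer_smul, e2, sext_counts, c240]
  · rw [hgS, ncard_orbit_stabilizer_smul, e3, sext_counts, c1440]
  · rw [hgS, orbit_stabilizer_smul, orbit_stabilizer_smul, orbit_stabilizer_smul, e1, e2, e3,
      ← Set.image_singleton (f := fun z => g • z), ← Set.image_union, ← Set.image_union,
      ← Set.image_union]
    ext R
    constructor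
    · intro hR
      have hR' : g⁻¹ • R ∈ sextets := smul_mem_sextets (g⁻¹).2 hR
      refine ⟨g⁻¹ • R, ?_, smul_inv_smul g R⟩
      simp only [Set.mem_union, Set.mem_singleton_iff, Set.mem_ofPred_eq]
      have := sext_key_cases hR'
      simp only [List.mem_cons, List.not_mem_nil, or_false] at this
      rcases this with h | h | h | h
      · exact Or.inl (Or.inl (Or.inl ((sext_key_self hR').1 h)))
      · exact Or.inl (Or.inl (Or.inr ⟨hR', h⟩))
      · exact Or.inl (Or.inr ⟨hR', h⟩)
      · exact Or.inr ⟨hR', h⟩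
    · rintro ⟨R, hR, rfl⟩
      refine smul_mem_sextets hσ ?_
      rcases hR with ((hR | hR) | hR) | hR
      · rw [Set.mem_singleton_iff] at hR
        exact hR ▸ cSext_mem
      all_goals exact hR.1
  · exact isCoatom_of_moves ⟨σ, hσ, rfl⟩ isCoatom_cSext

end CfsgLib.GolayOrbits
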