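import Cfsg.Agent.GolayOrbits.Sextet
import Cfsg.Agent.GolayOrbits.FamilyPerm
import Cfsg.Agent.GolayConfig.HomCert
import Cfsg.Agent.GolayOrbits.StructData

/-!
The structure of a sextet stabiliser in `Cfsg.M24`: all permutations of the tetrads are induced, and the
elements acting on each tetrad as a translation form a normal subgroup of order 64.
-/

set_option autoImplicit false

namespace CfsgLib.GolayOrbits

open Cfsg CfsgLib.Mathieu CfsgLib.GolayConfig CfsgLib.M24Classes
open scoped Pointwise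

theorem card_stabF_sextet {S : Finset (Finset GolayPt)} (hS : S ∈ sextets) :
    Nat.card (stabF S) = 138240 := by
  have horb : (MulAction.orbit ↥M24 S).ncard = 1771 := by
    rw [MulAction.orbit_eq_iff.2 (moves_iff_mem_orbit.1 (exists_sextet_map hS)), sextets_orbit]
    exact Cfsg.Agent.S1550.result.2
  have := card_stabilizer_of_orbit horb
  rw [Nat.card_congr (stabilizerInfEquiv M24 S).toEquiv]
  omega

theorem sextSwaps_ok : swapsOK cSext sextSwaps = true := by decide +kernel

theorem swapsIn_sextet {S : Finset (Finset GolayPt)} (hS : S ∈ sextets) : SwapsIn S := by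
  obtain ⟨σ, hσ, rfl⟩ := exists_sextet_map hS
  exact (swapsIn_of_ok sextSwaps_ok).smul hσ

/-- Fixing each member, an involution or trivial, free on each member where not trivial. -/
def IsTrans (F : Finset (Finset GolayPt)) (g : Equiv.Perm GolayPt) : Prop :=
  (∀ t ∈ F, g • t = t) ∧ (∀ x, g (g x) = x) ∧
    ∀ t ∈ F, ∀ x ∈ t, ∀ y ∈ t, g x = x → g y = y

theorem klein_sq : ∀ a b : Equiv.Perm (Fin 4),
    (∀ x, a (a x) = x) → (∀ x y, a x = x → a y = y) →
    (∀ x, b (b x) = x) → (∀ x y, b x = x → b y = y) → ∀ x, a (b (a (b x))) = x := by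
  decide +kernel

theorem klein_free : ∀ a b : Equiv.Perm (Fin 4),
    (∀ x, a (a x) = x) → (∀ x y, a x = x → a y = y) →
    (∀ x, b (b x) = x) → (∀ x y, b x = x → b y = y) → ∀ x y, a (b x) = x → a (b y) = y := by
  decide +kernel

theorem IsTrans.mul {F : Finset (Finset GolayPt)} (h4 : ∀ t ∈ F, t.card = 4)
    (hcov : ∀ x, ∃ t ∈ F, x ∈ t) {g h : Equiv.Perm GolayPt} (hg : IsTrans F g)
    (hh : IsTrans F h) : IsTrans F (g * h) := by
  have loc : ∀ t ∈ F, (∀ x ∈ t, g (h (g (h x))) = x) ∧
      ∀ x ∈ t, ∀ y ∈ t, g (h x) = x → g (h y) = y := by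
    intro t ht
    let e := t.equivFinOfCardEq (h4 t ht)
    let res : ∀ k : Equiv.Perm GolayPt, k • t = t → Equiv.Perm (Fin 4) := fun k hk =>
      e.permCongr (k.subtypePerm fun x => by
        conv_lhs => rw [← hk]
        exact smul_mem_iff k x t)
    have val : ∀ k hk x, ((e.symm (res k hk x) : ↥t) : GolayPt) = k (e.symm x : ↥t) :=
      fun k hk x => by simp [res, Equiv.permCongr_apply]
    have inj : ∀ {i j : Fin 4}, ((e.symm i : ↥t) : GolayPt) = (e.symm j : ↥t) → i = j :=
      fun h => e.symm.injective (Subtype.ext h)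
    have prop : ∀ k, IsTrans F k → ∀ hk, (∀ x, res k hk (res k hk x) = x) ∧
        ∀ x y, res k hk x = x → res k hk y = y := by
      intro k hk hkt
      refine ⟨fun x => inj (by rw [val k hkt, val k hkt, hk.2.1]), fun x y hx => inj ?_⟩
      rw [val k hkt]
      exact hk.2.2 t ht _ (e.symm x).2 _ (e.symm y).2 (by rw [← val k hkt, hx])
    have p1 := klein_sq (res g (hg.1 t ht)) (res h (hh.1 t ht))
      (prop g hg (hg.1 t ht)).1 (prop g hg (hg.1 t ht)).2 (prop h hh (hh.1 t ht)).1 (prop h hh (hh.1 t ht)).2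
    have p2 := klein_free (res g (hg.1 t ht)) (res h (hh.1 t ht))
      (prop g hg (hg.1 t ht)).1 (prop g hg (hg.1 t ht)).2 (prop h hh (hh.1 t ht)).1 (prop h hh (hh.1 t ht)).2
    refine ⟨fun x hx => ?_, fun x hx y hy hfix => ?_⟩
    · have := congrArg (fun i => ((e.symm i : ↥t) : GolayPt)) (p1 (e ⟨x, hx⟩))
      simp only [val, Equiv.symm_apply_apply] at this
      exact this
    · have hx' : res g (hg.1 t ht) (res h (hh.1 t ht) (e ⟨x, hx⟩)) = e ⟨x, hx⟩ := inj (by
        simp only [val, Equiv.symm_apply_apply]; exact hfix)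
      have := congrArg (fun i => ((e.symm i : ↥t) : GolayPt)) (p2 _ (e ⟨y, hy⟩) hx')
      simp only [val, Equiv.symm_apply_apply] at this
      exact this
  refine ⟨fun t ht => by rw [mul_smul, hh.1 t ht, hg.1 t ht], fun x => ?_, fun t ht => (loc t ht).2⟩
  obtain ⟨t, ht, hx⟩ := hcov x
  exact (loc t ht).1 x hx

theorem cSext_cover : ∀ x : GolayPt, ∃ t ∈ famSet cSext, x ∈ t := by
  intro x
  have h : (List.range 24).all (fun i => cSext.any fun M => M.testBit i) = true := by decide +kernel
  obtain ⟨M, hM, hb⟩ := List.any_eq_true.1 (List.all_eq_true.1 h (idx x) (List.mem_range.2 (idx_lt x)))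
  exact ⟨_, mem_famSet.2 ⟨M, hM, rfl⟩, mem_setOf24.2 hb⟩

/-- The translations in the stabiliser of the standard sextet. -/
def sextTrans : Subgroup (stabF (famSet cSext)) where
  carrier := {g | IsTrans (famSet cSext) g.1.1}
  one_mem' := ⟨fun t _ => one_smul _ t, fun _ => rfl, fun _ _ _ _ _ _ _ => rfl⟩
  mul_mem' {a b} ha hb := IsTrans.mul cSext_mem.2.1 cSext_cover ha hb
  inv_mem' {a} ha := by
    have e : (a⁻¹ : stabF (famSet cSext)).1.1 = a.1.1 := by
      refine Equiv.ext fun x => ?_
      show (a.1.1 : Equiv.Perm GolayPt)⁻¹ x = _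
      rw [Equiv.Perm.inv_eq_iff_eq]
      exact (ha.2.1 x).symm
    show IsTrans _ _
    rw [e]
    exact ha

instance : sextTrans.Normal := by
  refine ⟨fun n hn g => ?_⟩
  show IsTrans _ _
  obtain ⟨h1, h2, h3⟩ := hn
  have hinv : ∀ t ∈ famSet cSext, (g.1.1 : Equiv.Perm GolayPt)⁻¹ • t ∈ famSet cSext :=
    fun t ht => (smul_mem_stabF g⁻¹ t).2 ht
  refine ⟨fun t ht => ?_, fun x => ?_, fun t ht x hx y hy hfix => ?_⟩
  · show ((g.1.1 : Equiv.Perm GolayPt) * n.1.1 * g.1.1⁻¹) • t = t
    rw [mul_smul, mul_smul, h1 _ (hinv t ht), smul_inv_smul]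
  · show g.1.1 (n.1.1 (g.1.1⁻¹ (g.1.1 (n.1.1 (g.1.1⁻¹ x))))) = x
    rw [perm_inv_apply, h2, perm_apply_inv]
  · show g.1.1 (n.1.1 (g.1.1⁻¹ y)) = y
    have hfix' : n.1.1 (g.1.1⁻¹ x) = g.1.1⁻¹ x := by
      refine (g.1.1 : Equiv.Perm GolayPt).injective ?_
      rw [perm_apply_inv]
      exact hfix
    rw [h3 _ (hinv t ht) (g.1.1⁻¹ x) (Finset.smul_mem_smul_finset hx) (g.1.1⁻¹ y)
        (Finset.smul_mem_smul_finset hy) hfix',
      perm_apply_inv]

theorem sextTrans_sq : ∀ x ∈ sextTrans, x * x = 1 :=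
  fun _ hx => Subtype.ext (Subtype.ext (Equiv.ext hx.2.1))

/-- A table of a translation of the listed tetrads. -/
def transTab (l : List ℕ) (t : ℕ) : Bool :=
  isM24 t && ((List.range 24).all fun i => app t (app t i) == i) &&
    l.all fun M => push t 24 M == M &&
      ((List.range 24).all fun i => !(M.testBit i && app t i == i) ||
        (List.range 24).all fun j => !M.testBit j || app t j == j)

theorem exists_transTab {l : List ℕ} {t : ℕ} (h : transTab l t = true) :
    ∃ g ∈ M24, IsTrans (famSet l) g ∧ Rep enc g t := by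
  simp only [transTab, Bool.and_eq_true, List.all_eq_true, beq_iff_eq, Bool.or_eq_true,
    Bool.not_eq_true', Bool.and_eq_false_iff, beq_eq_false_iff_ne, List.mem_range] at h
  obtain ⟨⟨h1, h2⟩, h3⟩ := h
  obtain ⟨g, hg, r⟩ := inGroup_M24 h1
  have happ : ∀ x, app t (idx x) = idx (g x) := r
  refine ⟨g, hg, ⟨fun s hs => ?_, fun x => ?_, fun s hs x hx y hy hxy => ?_⟩, r⟩
  · obtain ⟨M, hM, rfl⟩ := mem_famSet.1 hs
    rw [smul_setOf24 r, (h3 M hM).1]
  · have := h2 _ (idx_lt x)
    rw [happ, happ] at this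
    exact idx_injective this
  · obtain ⟨M, hM, rfl⟩ := mem_famSet.1 hs
    have := (h3 M hM).2 _ (idx_lt x)
    rw [mem_setOf24] at hx hy
    rcases this with (h | h) | h
    · rw [hx] at h; exact absurd h (by simp)
    · rw [happ, hxy] at h; exact absurd rfl h
    · rcases h _ (idx_lt y) with h | h
      · rw [hy] at h; exact absurd h (by simp)
      · rw [happ] at h; exact idx_injective h

theorem smul_eq_of_isTrans {F : Finset (Finset GolayPt)} {g : Equiv.Perm GolayPt}
    (h : IsTrans F g) : g • F = F := by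
  refine Finset.eq_of_subset_of_card_le ?_ (Finset.card_smul_finset g F).ge
  intro c hc
  obtain ⟨c, hc', rfl⟩ := Finset.mem_smul_finset.1 hc
  rw [h.1 c hc']
  exact hc'

theorem exists_trans {t : ℕ} (h : transTab cSext t = true) :
    ∃ g : sextTrans, Rep enc (g.1.1.1 : Equiv.Perm GolayPt) t :=
  let ⟨g, hg, ht, r⟩ := exists_transTab h
  ⟨⟨⟨⟨g, hg⟩, smul_eq_of_isTrans ht⟩, ht⟩, r⟩

theorem sextTranslations_ok : sextTranslations.all (transTab cSext) = true ∧
    sextTranslations.length = 64 ∧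
    (sextTranslations.map fun t => (List.range 24).map (app t)).Nodup := by
  decide +kernel

theorem card_sextTrans : Nat.card sextTrans = 64 := by
  obtain ⟨hok, hlen, hnd⟩ := sextTranslations_ok
  choose f hf using fun t : {t // t ∈ sextTranslations} =>
    exists_trans (List.all_eq_true.1 hok t.1 t.2)
  have hlow : 64 ≤ Nat.card sextTrans := by
    have hinj : Function.Injective f := fun a b e => Subtype.ext <|
      List.inj_on_of_nodup_map hnd a.2 b.2 (List.map_congr_left fun i hi =>
        rep_apply_eq (hf a) (hf b) (by rw [e]) i (List.mem_range.1 hi))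
    have hc : Nat.card {t // t ∈ sextTranslations} = 64 := by
      rw [Nat.subtype_card sextTranslations.toFinset (by simp),
        List.toFinset_card_of_nodup (List.Nodup.of_map _ hnd), hlen]
    exact hc ▸ Nat.card_le_card_of_injective f hinj
  have hdvd : Nat.card sextTrans ∣ 192 := by
    have hker : Nat.card (famPerm (famSet cSext)).ker * Nat.factorial 6 = 138240 := by
      rw [← card_fixing_members (swapsIn_sextet cSext_mem) (card_stabF_sextet cSext_mem) cSext_mem.1]
      congr 1
      exact Nat.card_congr (Equiv.subtypeEquivRight fun g => famPerm_eq_one)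
    have hk : Nat.card (famPerm (famSet cSext)).ker = 192 := by
      exact Nat.eq_of_mul_eq_mul_right (Nat.factorial_pos 6)
        (hker.trans (by norm_num [Nat.factorial] : 138240 = 192 * Nat.factorial 6))
    rw [← hk]
    exact Subgroup.card_dvd_of_le fun g hg => famPerm_eq_one.2 hg.1
  have h2 : IsPGroup 2 sextTrans := fun x => ⟨1, Subtype.ext (by
    rw [pow_one, pow_two]; exact sextTrans_sq x.1 x.2)⟩
  obtain ⟨k, hk⟩ := IsPGroup.iff_card.1 h2
  rw [hk] at hdvd hlow ⊢
  rcases Nat.lt_or_ge k 7 with h | h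
  · interval_cases k <;> omega
  · exact absurd ((Nat.pow_dvd_pow 2 h).trans hdvd) (by norm_num)

theorem exists_sextet_translations {S : Finset (Finset GolayPt)} (hS : S ∈ sextets) :
    ∃ N : Subgroup (stabF S), N.Normal ∧ Nat.card N = 64 ∧ ∀ x ∈ N, x * x = 1 := by
  obtain ⟨σ, hσ, rfl⟩ := exists_sextet_map hS
  obtain ⟨N, hN, hc, h2, -⟩ :=
    exists_normal_transport (conjStab (⟨σ, hσ⟩ : ↥M24) (famSet cSext)) sextTrans_sq
  exact ⟨N, hN, hc.trans card_sextTrans, h2⟩

end CfsgLib.GolayOrbits
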