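import Cfsg.Agent.GolayOrbits.Coatom
import Cfsg.Agent.Mathieu.M24Actions

/-!
Stabilisers in `Cfsg.M24` and in the symmetric group on the 24 points: passing between the two,
conjugation, and orbits given by keys.
-/

set_option autoImplicit false

namespace CfsgLib.GolayOrbits

open Cfsg CfsgLib.Mathieu CfsgLib.GolayConfig
open scoped Pointwise

variable {X : Type} [MulAction (Equiv.Perm GolayPt) X]

theorem orbit_of_moves {x y z : X}
    (h : Moves (M24 ⊓ MulAction.stabilizer (Equiv.Perm GolayPt) x) y z) :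
    z ∈ MulAction.orbit (MulAction.stabilizer ↥M24 x) y := by
  obtain ⟨σ, ⟨hσ, hx⟩, e⟩ := h
  exact ⟨⟨⟨σ, hσ⟩, hx⟩, e⟩

/-- A configuration in the orbit of the standard one is its image. -/
theorem moves_iff_mem_orbit {x y : X} : Moves M24 x y ↔ y ∈ MulAction.orbit ↥M24 x :=
  ⟨fun ⟨σ, hσ, e⟩ => ⟨⟨σ, hσ⟩, e⟩, fun ⟨g, e⟩ => ⟨g.1, g.2, e⟩⟩

/-- Maximality of a stabiliser passes to the image configuration. -/
theorem isCoatom_of_moves {x y : X} (h : Moves M24 x y)
    (hc : IsCoatom (MulAction.stabilizer ↥M24 x)) : IsCoatom (MulAction.stabilizer ↥M24 y) := by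
  obtain ⟨σ, hσ, rfl⟩ := h
  rw [show σ • x = (⟨σ, hσ⟩ : ↥M24) • x from rfl, MulAction.stabilizer_smul_eq_stabilizer_map_conj]
  exact (OrderIso.isCoatom_iff ((MulAut.conj (⟨σ, hσ⟩ : ↥M24)).mapSubgroup) _).2 hc

/-- Orbits of the stabiliser of an image configuration. -/
theorem orbit_stabilizer_smul (g : ↥M24) (x y : X) :
    MulAction.orbit (MulAction.stabilizer ↥M24 (g • x)) (g • y) =
      (fun z => g • z) '' MulAction.orbit (MulAction.stabilizer ↥M24 x) y := by
  ext z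
  constructor
  · rintro ⟨⟨h, hh⟩, rfl⟩
    refine ⟨(g⁻¹ * h * g) • y, ⟨⟨g⁻¹ * h * g, ?_⟩, rfl⟩, ?_⟩
    · rw [MulAction.mem_stabilizer_iff] at hh ⊢
      rw [mul_smul, mul_smul, hh, inv_smul_smul]
    · show g • (g⁻¹ * h * g) • y = h • g • y
      rw [mul_smul, mul_smul, smul_inv_smul]
  · rintro ⟨_, ⟨⟨h, hh⟩, rfl⟩, rfl⟩
    refine ⟨⟨g * h * g⁻¹, ?_⟩, ?_⟩
    · rw [MulAction.mem_stabilizer_iff] at hh ⊢
      rw [mul_smul, mul_smul, inv_smul_smul, hh]
    · show (g * h * g⁻¹) • g • y = g • h • y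
      rw [mul_smul, mul_smul, inv_smul_smul]

theorem ncard_orbit_stabilizer_smul (g : ↥M24) (x y : X) :
    (MulAction.orbit (MulAction.stabilizer ↥M24 (g • x)) (g • y)).ncard =
      (MulAction.orbit (MulAction.stabilizer ↥M24 x) y).ncard := by
  rw [orbit_stabilizer_smul, Set.ncard_image_of_injective _ (MulAction.injective g)]

/-- An orbit of the stabiliser is a class of an invariant key. -/
theorem orbit_eq_key {x : X} {O : Set X} (hO : ∀ g : ↥M24, ∀ y ∈ O, g • y ∈ O) (key : X → ℕ)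
    (hkey : ∀ g ∈ MulAction.stabilizer ↥M24 x, ∀ y, key (g • y) = key y)
    (hmoves : ∀ y ∈ O, ∀ z ∈ O, key y = key z →
      Moves (M24 ⊓ MulAction.stabilizer (Equiv.Perm GolayPt) x) y z)
    {y : X} (hy : y ∈ O) :
    MulAction.orbit (MulAction.stabilizer ↥M24 x) y = {z | z ∈ O ∧ key z = key y} := by
  ext z
  constructor
  · rintro ⟨⟨h, hh⟩, rfl⟩
    exact ⟨hO h y hy, hkey h hh y⟩
  · rintro ⟨hz, hk⟩
    exact orbit_of_moves (hmoves y hy z hz hk.symm)

/-- The order of a stabiliser from the size of the orbit. -/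
theorem card_stabilizer_of_orbit {x : X} {N : ℕ} (hN : (MulAction.orbit ↥M24 x).ncard = N) :
    N * Nat.card ↥(M24 ⊓ MulAction.stabilizer (Equiv.Perm GolayPt) x) = 244823040 := by
  rw [← Nat.card_congr (stabilizerInfEquiv M24 x).toEquiv, ← hN, ← MulAction.index_stabilizer,
    Subgroup.index_mul_card, card_M24]

/-- A class of an indexed family. -/
theorem ncard_indexed {C : Coding X} {get : ℕ → C.E} {idxs : List ℕ} {key : X → ℕ}
    {keyC : C.E → ℕ} {O : Set X} (hO : O = (fun i => C.dec (get i)) '' {i | i ∈ idxs})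
    (hinj : Set.InjOn (fun i => C.dec (get i)) {i | i ∈ idxs}) (hnd : idxs.Nodup)
    (hkey : ∀ i ∈ idxs, key (C.dec (get i)) = keyC (get i)) (v : ℕ) :
    {y | y ∈ O ∧ key y = v}.ncard = (idxs.filter fun i => keyC (get i) == v).length := by
  have e : {y | y ∈ O ∧ key y = v} =
      (fun i => C.dec (get i)) '' {i | i ∈ idxs.filter fun i => keyC (get i) == v} := by
    ext y
    simp only [hO, Set.mem_image, Set.mem_ofPred_eq, List.mem_filter, beq_iff_eq]
    constructor
    · rintro ⟨⟨i, hi, rfl⟩, hk⟩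
      exact ⟨i, ⟨hi, (hkey i hi).symm.trans hk⟩, rfl⟩
    · rintro ⟨i, ⟨hi, hk⟩, rfl⟩
      exact ⟨⟨i, hi, rfl⟩, (hkey i hi).trans hk⟩
  have hsub : {i | i ∈ idxs.filter fun i => keyC (get i) == v} ⊆ {i | i ∈ idxs} :=
    fun i hi => (List.mem_filter.1 hi).1
  rw [e, (hinj.mono hsub).ncard_image,
    show {i | i ∈ idxs.filter fun i => keyC (get i) == v} =
      ((idxs.filter fun i => keyC (get i) == v).toFinset : Set ℕ) from (List.coe_toFinset _).symm,
    Set.ncard_coe_finset, List.toFinset_card_of_nodup (hnd.filter _)]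

end CfsgLib.GolayOrbits
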