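import Cfsg.Agent.GolayOrbits.SextetStructure
import Cfsg.Agent.GolayOrbits.Octad
import Cfsg.Agent.GolayOrbits.IndexData
import Cfsg.Agent.GolayConfig.NormalizerCert

/-!
Subgroups of `Cfsg.M24` containing the translations of a sextet: such a subgroup either fixes the
sextet, or has order divisible by 11, or has order at most 64512, or has order divisible by 7 and,
unless its order admits one of seven orbit lengths on the octads, fixes an octad.
-/

set_option autoImplicit false

namespace CfsgLib.GolayOrbits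

open Cfsg CfsgLib.Mathieu CfsgLib.GolayConfig CfsgLib.M24Classes
open scoped Pointwise

variable {H : Subgroup (Equiv.Perm GolayPt)}

theorem IsTrans.conj {F : Finset (Finset GolayPt)} {σ : Equiv.Perm GolayPt} (h : IsTrans F σ)
    (g : Equiv.Perm GolayPt) : IsTrans (g • F) (g * σ * g⁻¹) := by
  refine ⟨fun t ht => ?_, fun x => ?_, fun t ht x hx y hy hfix => ?_⟩
  · obtain ⟨t, ht', rfl⟩ := Finset.mem_smul_finset.1 ht
    rw [mul_smul, mul_smul, inv_smul_smul, h.1 t ht']
  · show g (σ (g⁻¹ (g (σ (g⁻¹ x))))) = x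
    rw [perm_inv_apply, h.2.1, perm_apply_inv]
  · obtain ⟨t, ht', rfl⟩ := Finset.mem_smul_finset.1 ht
    obtain ⟨x', hx', rfl⟩ := Finset.mem_smul_finset.1 hx
    obtain ⟨y', hy', rfl⟩ := Finset.mem_smul_finset.1 hy
    have hfix' : g (σ (g⁻¹ (g x'))) = g x' := hfix
    rw [perm_inv_apply] at hfix'
    show g (σ (g⁻¹ (g y'))) = g y'
    rw [perm_inv_apply, h.2.2 t ht' x' hx' y' hy' (g.injective hfix')]

/-- The subgroup contains the translations of the sextet. -/
def TransIn (H : Subgroup (Equiv.Perm GolayPt)) (S : Finset (Finset GolayPt)) : Prop :=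
  ∀ σ ∈ M24, IsTrans S σ → σ ∈ H

theorem TransIn.smul {S : Finset (Finset GolayPt)} (hle : H ≤ M24) (h : TransIn H S)
    {g : Equiv.Perm GolayPt} (hg : g ∈ H) : TransIn H (g • S) := by
  intro σ hσ ht
  have ht' := ht.conj g⁻¹
  rw [inv_smul_smul] at ht'
  have hm := h _ (mul_mem (mul_mem (inv_mem (hle hg)) hσ) (inv_mem (inv_mem (hle hg)))) ht'
  have := mul_mem (mul_mem hg hm) (inv_mem hg)
  simpa [mul_assoc] using this

theorem TransIn.comap {S : Finset (Finset GolayPt)} {k : Equiv.Perm GolayPt} (hk : k ∈ M24)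
    (h : TransIn H (k • S)) : TransIn (H.comap (MulAut.conj k).toMonoidHom) S :=
  fun σ hσ ht => h _ (mul_mem (mul_mem hk hσ) (inv_mem hk)) (ht.conj k)

theorem inGroup_trans {l : List ℕ} (h : TransIn H (famSet l)) {tabs : List ℕ}
    (hok : tabs.all (transTab l) = true) : ∀ t ∈ tabs, InGroup enc H t := by
  intro t ht
  obtain ⟨g, hg, htr, r⟩ := exists_transTab (List.all_eq_true.1 hok t ht)
  exact ⟨g, h g hg htr, r⟩

/-- The product along a word in a list of tables. -/
def wordTab (pool : List ℕ) : List ℕ → ℕ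
  | [] => idTab
  | i :: w => compTab (pool.getD i idTab) (wordTab pool w)

theorem inGroup_wordTab {pool : List ℕ} (h : ∀ t ∈ pool, InGroup enc H t) :
    ∀ w : List ℕ, InGroup enc H (wordTab pool w)
  | [] => ⟨1, one_mem _, rep_idTab⟩
  | i :: w => by
    obtain ⟨τ, hτ, rτ⟩ := inGroup_wordTab h w
    obtain ⟨σ, hσ, rσ⟩ : InGroup enc H (pool.getD i idTab) := by
      rcases Nat.lt_or_ge i pool.length with hi | hi
      · rw [List.getD_eq_getElem _ _ hi]
        exact h _ (List.getElem_mem hi)
      · rw [List.getD_eq_default _ _ hi]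
        exact ⟨1, one_mem _, rep_idTab⟩
    exact ⟨σ * τ, mul_mem hσ hτ, rep_compTab rσ rτ⟩

theorem dvd_card_of_table {t n : ℕ} (hn : 0 < n) (h : InGroup enc H t) (ho : hasOrder t n = true) :
    n ∣ Nat.card H := by
  obtain ⟨σ, hσ, r⟩ := h
  exact orderOf_of_hasOrder (σ := (⟨σ, hσ⟩ : H)) hn r ho ▸ orderOf_dvd_natCard _

/-- Translations of the standard sextet and of the one at key 36. -/
def nearPool : List ℕ := sextBasis ++ nearTrans

/-- Translations of the standard sextet and of the one at key 32. -/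
def farPool : List ℕ := sextBasis ++ farTrans

theorem trans_tables_ok : sextBasis.all (transTab cSext) = true ∧
    nearTrans.all (transTab (sextGet 1)) = true ∧ farTrans.all (transTab (sextGet 7)) = true := by
  decide +kernel

theorem word_orders : hasOrder (wordTab nearPool nearWord7) 7 = true ∧
    hasOrder (wordTab farPool farWord11) 11 = true := by
  decide +kernel

theorem inGroup_pool {l tabs : List ℕ} (h : TransIn H (famSet cSext)) (h' : TransIn H (famSet l))
    (hok : tabs.all (transTab l) = true) : ∀ t ∈ sextBasis ++ tabs, InGroup enc H t := fun t ht =>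
  (List.mem_append.1 ht).elim (inGroup_trans h trans_tables_ok.1 t) (inGroup_trans h' hok t)

/-- The generators of the octad stabiliser met in the near case. -/
def nearGens : List ℕ := nearWordsOct.map (wordTab nearPool)

theorem nearGens_fix : nearGens.all (fun t => push t 24 nearOct == nearOct) = true ∧
    isCode nearOct = true ∧ wt nearOct = 8 := by
  decide +kernel

/-- Intersection with the octad, on code words. -/
def meetsNear (w : ℕ) (M : ℕ) : Bool := isOct M && fastWt (M &&& nearOct) == w

theorem near_reach :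
    (List.range 4096).all (fun m => !meetsNear 0 (codeMask m) ||
      (reachCode nearGens nearOctSteps0 (2 ^ (nearOctRoot0 % 4096))).testBit m) = true ∧
    (List.range 4096).all (fun m => !meetsNear 2 (codeMask m) ||
      (reachCode nearGens nearOctSteps2 (2 ^ (nearOctRoot2 % 4096))).testBit m) = true ∧
    (List.range 4096).all (fun m => !meetsNear 4 (codeMask m) ||
      (reachCode nearGens nearOctSteps4 (2 ^ (nearOctRoot4 % 4096))).testBit m) = true ∧
    isCode nearOctRoot0 = true ∧ isCode nearOctRoot2 = true ∧ isCode nearOctRoot4 = true := by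
  decide +kernel

theorem near_meets : (codeSel isOct).all (fun M =>
    [8, 0, 2, 4].contains (fastWt (M &&& nearOct))) = true := by decide +kernel

theorem near_counts : ∀ a b c : Bool,
    (codeSel fun M => isOct M && (let w := fastWt (M &&& nearOct);
      w == 8 || (a && w == 0) || (b && w == 2) || (c && w == 4))).length =
    1 + 30 * a.toNat + 448 * b.toNat + 280 * c.toNat := by
  decide +kernel

/-- An order admitting none of the seven orbit lengths other than one. -/
def NoUnion (N : ℕ) : Prop :=
  ∀ a b c : Bool, (a || b || c) = true → ¬ (1 + 30 * a.toNat + 448 * b.toNat + 280 * c.toNat ∣ N)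

/-- The near case: an octad is fixed. -/
theorem fixed_octad_of_near (hle : H ≤ M24) (h1 : TransIn H (famSet cSext))
    (h2 : TransIn H (famSet (sextGet 1))) (hN : NoUnion (Nat.card H)) :
    ∀ σ ∈ H, σ • setOf24 nearOct = setOf24 nearOct := by
  classical
  have hgens : ∀ t ∈ nearGens, InGroup enc H t := fun t ht => by
    obtain ⟨w, -, rfl⟩ := List.mem_map.1 ht
    exact inGroup_wordTab (inGroup_pool h1 h2 trans_tables_ok.2.1) w
  set O := setOf24 nearOct with hO
  have hOoct : O ∈ octads := setOf24_mem_wordsOfWeight nearGens_fix.2.1 nearGens_fix.2.2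
  have hmask : ∀ o, fastWt (maskOf o &&& nearOct) = (o ∩ O).card := fun o => by
    rw [fastWt_eq, ← card_setOf24, setOf24_and, setOf24_maskOf]
  have hmeet : ∀ o ∈ octads,
      (o ∩ O).card = 8 ∨ (o ∩ O).card = 0 ∨ (o ∩ O).card = 2 ∨ (o ∩ O).card = 4 := fun o ho => by
    have := List.all_eq_true.1 near_meets _ (mem_codeSel ho.1 (isOct_maskOf ho))
    rw [List.contains_iff_mem, hmask] at this
    simpa using this
  have h8 : ∀ o ∈ octads, (o ∩ O).card = 8 → o = O := fun o ho h => by
    have e1 : o ∩ O = o := Finset.eq_of_subset_of_card_le Finset.inter_subset_left (by rw [h, ho.2])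
    have e2 : o ∩ O = O :=
      Finset.eq_of_subset_of_card_le Finset.inter_subset_right (by rw [h, hOoct.2])
    rw [← e1]; exact e2
  obtain ⟨r0, r2, r4, c0, c2, c4⟩ := near_reach
  clear_value O
  have key : ∀ (w root : ℕ) (st : List (ℕ × ℕ)), isCode root = true →
      ((List.range 4096).all fun m => !meetsNear w (codeMask m) ||
        (reachCode nearGens st (2 ^ (root % 4096))).testBit m) = true →
      ∀ o ∈ octads, ∀ o' ∈ octads, (o ∩ O).card = w → (o' ∩ O).card = w → Moves H o o' := by
    intro w root st hc hr o ho o' ho' e e'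
    have hp : ∀ u ∈ octads, (u ∩ O).card = w → Moves H (setOf24 root) u := fun u hu eu =>
      moves_codeSet hgens root st (meetsNear w) hc hr hu.1
        (by rw [meetsNear, isOct_maskOf hu, hmask, eu]; simp)
    exact ((hp o ho e).symm).trans (hp o' ho' e')
  let Ω := MulAction.orbit H O
  let a : Bool := decide (∃ o ∈ Ω, (o ∩ O).card = 0)
  let b : Bool := decide (∃ o ∈ Ω, (o ∩ O).card = 2)
  let c : Bool := decide (∃ o ∈ Ω, (o ∩ O).card = 4)
  have hoct : ∀ o ∈ Ω, o ∈ octads := by
    rintro _ ⟨g, rfl⟩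
    exact (smul_mem_wordsOfWeight_iff (hle g.2) 8 O).2 hOoct
  have hclosed : ∀ o ∈ octads, ∀ w ∈ [0, 2, 4], (∃ u ∈ Ω, (u ∩ O).card = w) →
      (o ∩ O).card = w → o ∈ Ω := by
    intro o ho w hw hu e
    obtain ⟨u, hu, eu⟩ := hu
    have hm : Moves H u o := by
      simp only [List.mem_cons, List.not_mem_nil, or_false] at hw
      rcases hw with rfl | rfl | rfl
      · exact key 0 _ _ c0 r0 u (hoct u hu) o ho eu e
      · exact key 2 _ _ c2 r2 u (hoct u hu) o ho eu e
      · exact key 4 _ _ c4 r4 u (hoct u hu) o ho eu e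
    obtain ⟨g, hg, rfl⟩ := hm
    obtain ⟨k, rfl⟩ := hu
    exact ⟨⟨g, hg⟩ * k, mul_smul g k.1 O⟩
  have hΩ : Ω = {o | o ∈ octads ∧ ((o ∩ O).card = 8 ∨ (a = true ∧ (o ∩ O).card = 0) ∨
      (b = true ∧ (o ∩ O).card = 2) ∨ (c = true ∧ (o ∩ O).card = 4))} := by
    ext o
    simp only [Set.mem_ofPred_eq, a, b, c, decide_eq_true_eq]
    constructor
    · intro ho
      refine ⟨hoct o ho, ?_⟩
      rcases hmeet o (hoct o ho) with h | h | h | h
      · exact Or.inl h
      · exact Or.inr (Or.inl ⟨⟨o, ho, h⟩, h⟩)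
      · exact Or.inr (Or.inr (Or.inl ⟨⟨o, ho, h⟩, h⟩))
      · exact Or.inr (Or.inr (Or.inr ⟨⟨o, ho, h⟩, h⟩))
    · rintro ⟨ho, h | ⟨hu, h⟩ | ⟨hu, h⟩ | ⟨hu, h⟩⟩
      · rw [h8 o ho h]; exact MulAction.mem_orbit_self O
      all_goals exact hclosed o ho _ (by simp) hu h
  have hcard : Ω.ncard = 1 + 30 * a.toNat + 448 * b.toNat + 280 * c.toNat := by
    rw [hΩ, setOf_octads_eq]
    exact ncard_codeSet (fun M => by
      simp only [Bool.and_eq_true, Bool.or_eq_true, beq_iff_eq, isOct_iff, fastWt_eq, ← card_setOf24,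
        setOf24_and, ← hO, or_assoc]) (near_counts a b c)
  have hdvd : Ω.ncard ∣ Nat.card H := by
    rw [← MulAction.index_stabilizer]
    exact Subgroup.index_dvd_card _
  intro σ hσ
  by_contra hne
  have hmem : σ • O ∈ Ω := ⟨⟨σ, hσ⟩, rfl⟩
  have habc : (a || b || c) = true := by
    simp only [a, b, c, Bool.or_eq_true, decide_eq_true_eq]
    rcases hmeet _ (hoct _ hmem) with h | h | h | h
    · exact absurd (h8 _ (hoct _ hmem) h) hne
    · exact Or.inl (Or.inl ⟨_, hmem, h⟩)
    · exact Or.inl (Or.inr ⟨_, hmem, h⟩)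
    · exact Or.inr ⟨_, hmem, h⟩
  exact hN a b c habc (hcard ▸ hdvd)

/-! ### Cliques of sextets at key 48 -/

/-- No `n` pairwise related members. -/
def noClique (adj : ℕ → ℕ → Bool) : ℕ → List ℕ → Bool
  | 0, _ => false
  | n + 1, L => L.tails.all fun l =>
    match l with
    | [] => true
    | a :: rest => noClique adj n (rest.filter (adj a))

theorem noClique_spec (adj : ℕ → ℕ → Bool) :
    ∀ (n : ℕ) (L : List ℕ), noClique adj n L = true → ∀ T : Finset ℕ, (∀ i ∈ T, i ∈ L) →
      (∀ i ∈ T, ∀ j ∈ T, i ≠ j → adj i j = true) → T.card < n := by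
  intro n
  induction n with
  | zero => intro L h; simp [noClique] at h
  | succ n ihn =>
    intro L
    induction L with
    | nil =>
      intro _ T hT _
      rw [Finset.eq_empty_of_forall_notMem fun i hi => List.not_mem_nil (hT i hi)]
      simp
    | cons a rest ih =>
      intro h T hT hadj
      simp only [noClique, List.tails_cons, List.all_cons, Bool.and_eq_true] at h
      have ha' : ∀ i ∈ T, i ≠ a → i ∈ rest := fun i hi hne =>
        (List.mem_cons.1 (hT i hi)).resolve_left hne
      by_cases ha : a ∈ T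
      · have := ihn _ h.1 (T.erase a)
          (fun i hi => List.mem_filter.2
            ⟨ha' i (Finset.mem_of_mem_erase hi) (Finset.ne_of_mem_erase hi),
              hadj a ha i (Finset.mem_of_mem_erase hi) (Finset.ne_of_mem_erase hi).symm⟩)
          (fun i hi j hj => hadj i (Finset.mem_of_mem_erase hi) j (Finset.mem_of_mem_erase hj))
        rw [Finset.card_erase_of_mem ha] at this
        omega
      · exact ih h.2 T (fun i hi => ha' i hi fun e => ha (e ▸ hi)) hadj

end CfsgLib.GolayOrbits
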