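import Cfsg.Agent.GolayOrbits.Families
import Cfsg.Agent.GolayOrbits.Octad

/-!
The stabiliser of a trio in `Cfsg.M24`: its five orbits on the trios, and maximality.
-/

set_option autoImplicit false

namespace CfsgLib.GolayOrbits

open Cfsg CfsgLib.Mathieu CfsgLib.GolayConfig CfsgLib.M24Classes
open scoped Pointwise

/-- The standard trio. -/
def cTrio : List ℕ := [8391797, 307594, 8077824]

/-- The trio data in pieces. -/
def trioChunks : List (List (ℕ × List ℕ)) := chunksOf 16 trioData 16

/-- The trio with a given index. -/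
def trioGet (i : ℕ) : List ℕ :=
  let e := (trioChunks.getD (i / 15 / 16) []).getD (i / 15 % 16) (0, [])
  let p := e.2.getD (i % 15) 0
  [e.1, p, (16777215 ^^^ e.1) ^^^ p]

/-- The indices of the trios. -/
@[irreducible] def trioIdx : List ℕ := List.range 3795

theorem trioIdx_nodup : trioIdx.Nodup := by
  unfold trioIdx
  exact List.nodup_range (n := 3795)

theorem mem_trioIdx {i : ℕ} (h : i < 3795) : i ∈ trioIdx := by
  unfold trioIdx
  exact (List.mem_range (n := 3795)).2 h

theorem trioGet_map : trioIdx.map trioGet = trioList := by decide +kernel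

/-- The stabiliser of the standard trio. -/
def HTR : Subgroup (Equiv.Perm GolayPt) := cut M24 famCoding cTrio

theorem gensHTR : ∀ t ∈ gTrio, InGroup enc HTR t :=
  inGroup_of_checks (inGroup_of_isM24 (by decide +kernel)) (by decide +kernel)

theorem trio_orbits_ok :
    orbitsOK famCoding gTrio trioGet (keyFamL cTrio) trioStepsClasses trioIdx = true := by
  decide +kernel

theorem trioGet_mem {i : ℕ} (hi : i ∈ trioIdx) : trioGet i ∈ trioList := by
  rw [← trioGet_map]; exact List.mem_map_of_mem hi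

theorem trios_indexed : trios = (fun i => famSet (trioGet i)) '' {i | i ∈ trioIdx} := by
  rw [trios_eq_image]
  ext F
  simp only [Set.mem_image, Set.mem_ofPred_eq]
  constructor
  · rintro ⟨l, hl, rfl⟩
    rw [← trioGet_map] at hl
    obtain ⟨i, hi, rfl⟩ := List.mem_map.1 hl
    exact ⟨i, hi, rfl⟩
  · rintro ⟨i, hi, rfl⟩
    exact ⟨_, trioGet_mem hi, rfl⟩

theorem trioGet_injOn : Set.InjOn (fun i => famSet (trioGet i)) {i | i ∈ trioIdx} :=
  fun i hi j hj h =>
    List.inj_on_of_nodup_map (by rw [trioGet_map]; exact trioList_nodup) hi hj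
      (trioList_injOn (trioGet_mem hi) (trioGet_mem hj) h)

theorem cTrio_mem : famSet cTrio ∈ trios := by
  rw [trios_indexed]
  have h : trioGet 0 = cTrio := by decide +kernel
  exact ⟨0, mem_trioIdx (by norm_num), congrArg famSet h⟩

theorem trio_key {i : ℕ} (hi : i ∈ trioIdx) :
    meetSq (famSet cTrio) (famSet (trioGet i)) = keyFamL cTrio (trioGet i) := by
  refine meetSq_famSet (by rw [cTrio_mem.1]; rfl) ?_
  have h : famSet (trioGet i) ∈ trios := trios_indexed ▸ Set.mem_image_of_mem _ hi
  rw [h.1]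
  rfl

/-- A trio is determined by two of its octads. -/
theorem trio_eq_of_two {T T' : Finset (Finset GolayPt)} (hT : T ∈ trios) (hT' : T' ∈ trios)
    {a b : Finset GolayPt} (hab : a ≠ b) (ha : a ∈ T) (hb : b ∈ T) (ha' : a ∈ T') (hb' : b ∈ T') :
    T = T' := by
  have third : ∀ R ∈ trios, a ∈ R → b ∈ R → R = {a, b, (a ∪ b)ᶜ} := by
    intro R hR ha hb
    have hda := hR.2.2 a ha b hb hab
    obtain ⟨c, hc, hca, hcb⟩ : ∃ c ∈ R, c ≠ a ∧ c ≠ b := by
      by_contra h
      push_neg at h
      have hsub : R ⊆ {a, b} := fun c hc => by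
        by_cases hca : c = a
        · simp [hca]
        · simp [h c hc hca]
      have := (Finset.card_le_card hsub).trans Finset.card_le_two
      rw [hR.1] at this
      omega
    have hcc : c = (a ∪ b)ᶜ := by
      refine Finset.eq_of_subset_of_card_le ?_ ?_
      · intro x hx
        rw [Finset.mem_compl, Finset.mem_union]
        rintro (h | h)
        · exact Finset.disjoint_left.1 (hR.2.2 c hc a ha hca) hx h
        · exact Finset.disjoint_left.1 (hR.2.2 c hc b hb hcb) hx h
      · rw [Finset.card_compl, Finset.card_union_of_disjoint hda, (hR.2.1 a ha).2, (hR.2.1 b hb).2,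
          (hR.2.1 c hc).2]
        simp [ZMod.card]
    refine (Finset.eq_of_subset_of_card_le ?_ ?_).symm
    · intro x hx
      simp only [Finset.mem_insert, Finset.mem_singleton] at hx
      rcases hx with rfl | rfl | rfl
      exacts [ha, hb, hcc ▸ hc]
    · rw [hR.1, Finset.card_insert_of_notMem, Finset.card_pair (hcc ▸ hcb.symm)]
      simp only [Finset.mem_insert, Finset.mem_singleton, not_or]
      exact ⟨hab, hcc ▸ hca.symm⟩
  rw [third T hT ha hb, third T' hT' ha' hb']

theorem exists_trio_map {T : Finset (Finset GolayPt)} (hT : T ∈ trios) :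
    Moves M24 (famSet cTrio) T := by
  obtain ⟨A, hA, B, hB, hAB⟩ := Finset.one_lt_card.1 (show 1 < T.card by rw [hT.1]; norm_num)
  have hX : setOf24 cOctX ∈ famSet cTrio := mem_famSet.2 ⟨_, by decide +kernel, rfl⟩
  have hY : setOf24 307594 ∈ famSet cTrio := mem_famSet.2 ⟨_, by decide +kernel, rfl⟩
  have hXY : setOf24 cOctX ≠ setOf24 307594 := by decide +kernel
  obtain ⟨σ, hσ, hσA⟩ := exists_octad_map (hT.2.1 A hA)
  have hB' : σ⁻¹ • B ∈ octads := (smul_mem_wordsOfWeight_iff (inv_mem hσ) 8 B).2 (hT.2.1 B hB)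
  obtain ⟨τ, hτ, hτY⟩ := moves_HO (cTrio_mem.2.1 _ hY) hB' (by
    rw [Finset.disjoint_iff_inter_eq_empty.1 (cTrio_mem.2.2 _ hX _ hY hXY), Finset.card_empty,
      ← card_smul_inter σ (setOf24 cOctX) (σ⁻¹ • B), smul_inv_smul, hσA,
      Finset.disjoint_iff_inter_eq_empty.1 (hT.2.2 A hA B hB hAB), Finset.card_empty])
  refine ⟨σ * τ, mul_mem hσ hτ.1, trio_eq_of_two (smul_mem_trios (mul_mem hσ hτ.1) cTrio_mem) hT hAB
    ?_ ?_ hA hB⟩
  · rw [show A = (σ * τ) • setOf24 cOctX by
      rw [mul_smul, show τ • setOf24 cOctX = setOf24 cOctX from hτ.2, hσA]]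
    exact Finset.smul_mem_smul_finset hX
  · rw [show B = (σ * τ) • setOf24 307594 by rw [mul_smul, hτY, smul_inv_smul]]
    exact Finset.smul_mem_smul_finset hY

theorem trios_orbit : MulAction.orbit ↥M24 (famSet cTrio) = trios := by
  ext S
  refine ⟨?_, fun h => moves_iff_mem_orbit.1 (exists_trio_map h)⟩
  rintro ⟨g, rfl⟩
  exact smul_mem_trios g.2 cTrio_mem

theorem moves_HTR {S R : Finset (Finset GolayPt)} (hS : S ∈ trios) (hR : R ∈ trios)
    (h : meetSq (famSet cTrio) S = meetSq (famSet cTrio) R) : Moves HTR S R := by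
  rw [trios_indexed] at hS hR
  obtain ⟨i, hi, rfl⟩ := hS
  obtain ⟨j, hj, rfl⟩ := hR
  simp only [trio_key hi, trio_key hj] at h
  exact moves_keys (C := famCoding) gensHTR trio_orbits_ok hi hj h

theorem trio_count_values :
    (trioIdx.filter fun i => keyFamL cTrio (trioGet i) == 192).length = 1 ∧
    (trioIdx.filter fun i => keyFamL cTrio (trioGet i) == 128).length = 42 ∧
    (trioIdx.filter fun i => keyFamL cTrio (trioGet i) == 96).length = 56 ∧
    (trioIdx.filter fun i => keyFamL cTrio (trioGet i) == 80).length = 1008 ∧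
    (trioIdx.filter fun i => keyFamL cTrio (trioGet i) == 72).length = 2688 := by
  decide +kernel

theorem trio_counts (v : ℕ) :
    {S | S ∈ trios ∧ meetSq (famSet cTrio) S = v}.ncard =
      (trioIdx.filter fun i => keyFamL cTrio (trioGet i) == v).length :=
  ncard_indexed (C := famCoding) (get := trioGet) (keyC := keyFamL cTrio) trios_indexed
    trioGet_injOn trioIdx_nodup (fun _ hi => trio_key hi) v

theorem trio_key_cases {S : Finset (Finset GolayPt)} (hS : S ∈ trios) :
    meetSq (famSet cTrio) S ∈ [192, 128, 96, 80, 72] := by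
  have key : trioIdx.all
      (fun i => [192, 128, 96, 80, 72].contains (keyFamL cTrio (trioGet i))) = true := by
    decide +kernel
  rw [trios_indexed] at hS
  obtain ⟨i, hi, rfl⟩ := hS
  rw [trio_key hi]
  exact List.contains_iff_mem.1 (List.all_eq_true.1 key i hi)

theorem trio_key_self {S : Finset (Finset GolayPt)} (hS : S ∈ trios) :
    meetSq (famSet cTrio) S = 192 ↔ S = famSet cTrio := by
  have hx : meetSq (famSet cTrio) (famSet cTrio) = 192 := by
    rw [meetSq_famSet (by rw [cTrio_mem.1]; rfl) (by rw [cTrio_mem.1]; rfl)]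
    decide +kernel
  refine ⟨fun h => ?_, fun h => h ▸ hx⟩
  obtain ⟨t, ht⟩ := Set.ncard_eq_one.1 ((trio_counts 192).trans trio_count_values.1)
  have h2 : S ∈ ({t} : Set (Finset (Finset GolayPt))) := ht ▸ ⟨hS, h⟩
  have h3 : famSet cTrio ∈ ({t} : Set (Finset (Finset GolayPt))) := ht ▸ ⟨cTrio_mem, hx⟩
  rw [Set.mem_singleton_iff] at h2 h3
  rw [h2, h3]

theorem isCoatom_cTrio : IsCoatom (MulAction.stabilizer ↥M24 (famSet cTrio)) := by
  obtain ⟨c1, c42, c56, c1008, c2688⟩ := trio_count_values
  refine isCoatom_stabilizer (famSet cTrio) (meetSq (famSet cTrio))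
    [(192, 1), (128, 42), (96, 56), (80, 1008), (72, 2688)] (by decide) ?_ ?_ ?_ ?_ (by decide)
    (by decide)
  · intro y hy z hz h
    rw [trios_orbit] at hy hz
    exact orbit_of_moves (moves_HTR hy hz h)
  · intro y hy h
    rw [trios_orbit] at hy
    exact (trio_key_self hy).1 (h.trans ((trio_key_self cTrio_mem).2 rfl))
  · intro y hy
    rw [trios_orbit] at hy
    exact trio_key_cases hy
  · intro c hc
    rw [trios_orbit, trio_counts]
    simp only [List.mem_cons, List.not_mem_nil, or_false] at hc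
    rcases hc with rfl | rfl | rfl | rfl | rfl
    exacts [c1, c42, c56, c1008, c2688]

/-- The five orbits of a trio stabiliser on the trios, and its maximality. -/
theorem trio_orbits {T : Finset (Finset GolayPt)} (hT : T ∈ trios) :
    ∃ X₁ ∈ trios, ∃ X₂ ∈ trios, ∃ X₃ ∈ trios, ∃ X₄ ∈ trios,
      (MulAction.orbit ↥(MulAction.stabilizer M24 T) X₁).ncard = 42 ∧
      (MulAction.orbit ↥(MulAction.stabilizer M24 T) X₂).ncard = 56 ∧
      (MulAction.orbit ↥(MulAction.stabilizer M24 T) X₃).ncard = 1008 ∧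
      (MulAction.orbit ↥(MulAction.stabilizer M24 T) X₄).ncard = 2688 ∧
      trios = {T} ∪ MulAction.orbit ↥(MulAction.stabilizer M24 T) X₁ ∪
        MulAction.orbit ↥(MulAction.stabilizer M24 T) X₂ ∪
        MulAction.orbit ↥(MulAction.stabilizer M24 T) X₃ ∪
        MulAction.orbit ↥(MulAction.stabilizer M24 T) X₄ ∧
      IsCoatom (MulAction.stabilizer M24 T) := by
  obtain ⟨σ, hσ, rfl⟩ := exists_trio_map hT
  set g : ↥M24 := ⟨σ, hσ⟩
  have hgS : σ • famSet cTrio = g • famSet cTrio := rfl
  obtain ⟨-, c42, c56, c1008, c2688⟩ := trio_count_values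
  have hmem : ∀ i ∈ trioIdx, famSet (trioGet i) ∈ trios := fun i hi =>
    trios_indexed ▸ Set.mem_image_of_mem _ hi
  have horb : ∀ i ∈ trioIdx, ∀ v, keyFamL cTrio (trioGet i) = v →
      MulAction.orbit (MulAction.stabilizer ↥M24 (famSet cTrio)) (famSet (trioGet i)) =
        {S | S ∈ trios ∧ meetSq (famSet cTrio) S = v} := fun i hi v hv => by
    rw [stabilizer_orbits trios_orbit (meetSq (famSet cTrio))
      (fun h hh y => by
        conv_lhs => rw [← (MulAction.mem_stabilizer_iff.1 hh : h • famSet cTrio = famSet cTrio)]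
        exact meetSq_smul h.1 _ y)
      (fun y hy z hz h => moves_HTR hy hz h) (hmem i hi), trio_key hi, hv]
  have h1 : (1 : ℕ) ∈ trioIdx := mem_trioIdx (by norm_num)
  have h22 : (22 : ℕ) ∈ trioIdx := mem_trioIdx (by norm_num)
  have h16 : (16 : ℕ) ∈ trioIdx := mem_trioIdx (by norm_num)
  have h61 : (61 : ℕ) ∈ trioIdx := mem_trioIdx (by norm_num)
  have e1 := horb 1 h1 128 (by decide +kernel)
  have e2 := horb 22 h22 96 (by decide +kernel)
  have e3 := horb 16 h16 80 (by decide +kernel)
  have e4 := horb 61 h61 72 (by decide +kernel)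
  refine ⟨g • famSet (trioGet 1), smul_mem_trios hσ (hmem 1 h1),
    g • famSet (trioGet 22), smul_mem_trios hσ (hmem 22 h22),
    g • famSet (trioGet 16), smul_mem_trios hσ (hmem 16 h16),
    g • famSet (trioGet 61), smul_mem_trios hσ (hmem 61 h61), ?_, ?_, ?_, ?_, ?_, ?_⟩
  · rw [hgS, ncard_orbit_stabilizer_smul, e1, trio_counts, c42]
  · rw [hgS, ncard_orbit_stabilizer_smul, e2, trio_counts, c56]
  · rw [hgS, ncard_orbit_stabilizer_smul, e3, trio_counts, c1008]
  · rw [hgS, ncard_orbit_stabilizer_smul, e4, trio_counts, c2688]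
  · rw [hgS, orbit_stabilizer_smul, orbit_stabilizer_smul, orbit_stabilizer_smul,
      orbit_stabilizer_smul, e1, e2, e3, e4,
      ← Set.image_singleton (f := fun z => g • z), ← Set.image_union, ← Set.image_union,
      ← Set.image_union, ← Set.image_union]
    ext R
    constructor
    · intro hR
      have hR' : g⁻¹ • R ∈ trios := smul_mem_trios (g⁻¹).2 hR
      refine ⟨g⁻¹ • R, ?_, smul_inv_smul g R⟩
      simp only [Set.mem_union, Set.mem_singleton_iff, Set.mem_ofPred_eq]
      have := trio_key_cases hR'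
      simp only [List.mem_cons, List.not_mem_nil, or_false] at this
      rcases this with h | h | h | h | h
      · exact Or.inl (Or.inl (Or.inl (Or.inl ((trio_key_self hR').1 h))))
      · exact Or.inl (Or.inl (Or.inl (Or.inr ⟨hR', h⟩)))
      · exact Or.inl (Or.inl (Or.inr ⟨hR', h⟩))
      · exact Or.inl (Or.inr ⟨hR', h⟩)
      · exact Or.inr ⟨hR', h⟩
    · rintro ⟨R, hR, rfl⟩
      refine smul_mem_trios hσ ?_
      rcases hR with (((hR | hR) | hR) | hR) | hR
      · rw [Set.mem_singleton_iff] at hR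
        exact hR ▸ cTrio_mem
      all_goals exact hR.1
  · exact isCoatom_of_moves ⟨σ, hσ, rfl⟩ isCoatom_cTrio

end CfsgLib.GolayOrbits
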