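import Cfsg.Agent.GolayOrbits.Trio
import Cfsg.Agent.GolayOrbits.FamilyPerm
import Cfsg.Agent.GolayOrbits.StructData
import Cfsg.Agent.GolayConfig.HomCert
import Cfsg.Agent.S1557

/-!
The structure of a trio stabiliser in `Cfsg.M24`: it induces all permutations of the three octads and
every linear map on the seven sextets refining the trio; the kernel has order 64 and exponent two.
-/

set_option autoImplicit false

namespace CfsgLib.GolayOrbits

open Cfsg CfsgLib.Mathieu CfsgLib.GolayConfig CfsgLib.M24Classes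
open scoped Pointwise

/-- Vectors of length three over the field of two elements. -/
abbrev VV : Type := Fin 3 → ZMod 2

/-- The number of a vector. -/
def vecNum (v : VV) : ℕ := (v 0).val + 2 * (v 1).val + 4 * (v 2).val

/-- The vector of a number. -/
def vecOf (n : ℕ) : VV := fun i => if n.testBit i then 1 else 0

/-- The refining sextet of a nonzero vector, as masks. -/
def refCode (v : VV) : List ℕ := refSextets.getD (vecNum v - 1) []

/-- The refining sextet of a nonzero vector. -/
def refSet (v : VV) : Finset (Finset GolayPt) := famSet (refCode v)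

theorem refCode_data : ∀ v : VV, v ≠ 0 →
    sextetData.contains (refCode v) = true ∧
      (refCode v).all (fun M => decide (M < 16777216) && cTrio.any fun o => M &&& o == M) = true := by
  decide +kernel

theorem refCode_unique : ∀ v w : VV, v ≠ 0 → w ≠ 0 →
    (refCode v).any (fun M => (refCode w).contains M) = true → v = w := by
  decide +kernel

theorem refCode_add : ∀ u v : VV, u ≠ 0 → v ≠ 0 → u ≠ v →
    ((refCode u).all fun a => (refCode v).all fun b =>
      a &&& b == 0 || (refCode (u + v)).contains (a ^^^ b)) = true ∧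
    ((refCode u).any fun a => (refCode v).any fun b => !(a &&& b == 0)) = true := by
  decide +kernel

theorem refCode_two : (refSextets.all fun l => cTrio.all fun o => l.all fun a => l.all fun b =>
    l.all fun c => !(a &&& o == a) || !(b &&& o == b) || !(c &&& o == c) || a == b || a == c ||
      b == c) = true := by
  decide +kernel

theorem refCode_sep : ((List.range 24).all fun i => (List.range 24).all fun j =>
    i == j || refSextets.any fun l => l.any fun M => M.testBit i && !M.testBit j) = true := by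
  decide +kernel

theorem refCode_all : (sextetData.all fun l =>
    !(l.all fun M => cTrio.any fun o => M &&& o == M) ||
      refSextets.any fun r => famCoding.same l r) = true := by
  decide +kernel

theorem refCode_mem {v : VV} (hv : v ≠ 0) : refCode v ∈ refSextets := by
  have : ∀ v : VV, v ≠ 0 → refSextets.contains (refCode v) = true := by decide +kernel
  exact List.contains_iff_mem.1 (this v hv)

theorem refCode_surj {r : List ℕ} (hr : r ∈ refSextets) : ∃ v : VV, v ≠ 0 ∧ refCode v = r := by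
  have : ∀ r ∈ refSextets, ∃ v : VV, v ≠ 0 ∧ refCode v = r := by decide +kernel
  exact this r hr

theorem refCode_lt {v : VV} (hv : v ≠ 0) {M : ℕ} (hM : M ∈ refCode v) : M < 2 ^ 24 := by
  have := List.all_eq_true.1 (refCode_data v hv).2 M hM
  simp only [Bool.and_eq_true, decide_eq_true_eq] at this
  exact this.1

theorem cTrio_lt : ∀ o ∈ cTrio, o < 2 ^ 24 := by decide +kernel

theorem setOf24_subset {a b : ℕ} (ha : a < 2 ^ 24) :
    setOf24 a ⊆ setOf24 b ↔ a &&& b = a := by
  rw [← Finset.inter_eq_left, ← setOf24_and]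
  refine ⟨fun h => setOf24_inj ?_ ha h, fun h => by rw [h]⟩
  exact lt_of_le_of_lt Nat.and_le_left ha

theorem setOf24_xor (a b : ℕ) : setOf24 (a ^^^ b) = symmDiff (setOf24 a) (setOf24 b) := by
  ext x
  simp only [mem_setOf24, Finset.mem_symmDiff, Nat.testBit_xor]
  cases a.testBit (idx x) <;> cases b.testBit (idx x) <;> simp

theorem smul_symmDiff' (g : Equiv.Perm GolayPt) (s t : Finset GolayPt) :
    g • symmDiff s t = symmDiff (g • s) (g • t) := by
  ext x
  rw [← Finset.inv_smul_mem_iff, Finset.mem_symmDiff, Finset.mem_symmDiff,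
    ← Finset.inv_smul_mem_iff (s := s), ← Finset.inv_smul_mem_iff (s := t)]

theorem refSet_mem {v : VV} (hv : v ≠ 0) : refSet v ∈ sextets := by
  rw [sextets_eq_image]
  exact ⟨_, List.contains_iff_mem.1 (refCode_data v hv).1, rfl⟩

theorem refSet_inside {v : VV} (hv : v ≠ 0) {t : Finset GolayPt} (ht : t ∈ refSet v) :
    ∃ o ∈ famSet cTrio, t ⊆ o := by
  obtain ⟨M, hM, rfl⟩ := mem_famSet.1 ht
  have := List.all_eq_true.1 (refCode_data v hv).2 M hM
  simp only [Bool.and_eq_true, decide_eq_true_eq, List.any_eq_true, beq_iff_eq] at this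
  obtain ⟨o, ho, e⟩ := this.2
  exact ⟨_, mem_famSet.2 ⟨o, ho, rfl⟩, (setOf24_subset this.1).2 e⟩

theorem refSet_eq {v w : VV} (hv : v ≠ 0) (hw : w ≠ 0) {t : Finset GolayPt} (h1 : t ∈ refSet v)
    (h2 : t ∈ refSet w) : v = w := by
  obtain ⟨M, hM, rfl⟩ := mem_famSet.1 h1
  obtain ⟨N, hN, e⟩ := mem_famSet.1 h2
  refine refCode_unique v w hv hw (List.any_eq_true.2 ⟨M, hM, List.contains_iff_mem.2 ?_⟩)
  rwa [← setOf24_inj (refCode_lt hw hN) (refCode_lt hv hM) e]

theorem refSet_nonempty {v : VV} (hv : v ≠ 0) : ∃ t, t ∈ refSet v :=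
  Finset.card_pos.1 (by rw [(refSet_mem hv).1]; norm_num)

theorem refSet_inj {v w : VV} (hv : v ≠ 0) (hw : w ≠ 0) (h : refSet v = refSet w) : v = w := by
  obtain ⟨t, ht⟩ := refSet_nonempty hv
  exact refSet_eq hv hw ht (h ▸ ht)

theorem exists_refSet_image (g : stabF (famSet cTrio)) {v : VV} (hv : v ≠ 0) :
    ∃ w : VV, w ≠ 0 ∧ (g.1.1 : Equiv.Perm GolayPt) • refSet v = refSet w := by
  have hS := smul_mem_sextets g.1.2 (refSet_mem hv)
  rw [sextets_eq_image] at hS
  obtain ⟨l, hl, e⟩ := hS
  have h := List.all_eq_true.1 refCode_all l hl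
  rw [Bool.or_eq_true] at h
  have hin : (l.all fun M => cTrio.any fun o => M &&& o == M) = true := by
    refine List.all_eq_true.2 fun M hM => List.any_eq_true.2 ?_
    have hm : setOf24 M ∈ (g.1.1 : Equiv.Perm GolayPt) • refSet v := e ▸ mem_famSet.2 ⟨M, hM, rfl⟩
    obtain ⟨t, ht, het⟩ := Finset.mem_smul_finset.1 hm
    obtain ⟨o, ho, hto⟩ := refSet_inside hv ht
    obtain ⟨O, hO, hOo⟩ := mem_famSet.1 ((smul_mem_stabF g o).2 ho)
    refine ⟨O, hO, beq_iff_eq.2 ((setOf24_subset (sextetData_lt l hl M hM)).1 ?_)⟩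
    rw [hOo, ← het]
    exact Finset.smul_finset_subset_smul_finset hto
  rw [hin] at h
  obtain ⟨r, hr, hsame⟩ := List.any_eq_true.1 (h.resolve_left (by simp))
  obtain ⟨w, hw, rfl⟩ := refCode_surj hr
  exact ⟨w, hw, e.symm.trans (famCoding.dec_same hsame)⟩

open Classical in
/-- The vector to which a member of the stabiliser sends a vector. -/
noncomputable def refMap (g : stabF (famSet cTrio)) (v : VV) : VV :=
  if hv : v = 0 then 0 else (exists_refSet_image g hv).choose

theorem refMap_spec (g : stabF (famSet cTrio)) {v : VV} (hv : v ≠ 0) :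
    refMap g v ≠ 0 ∧ (g.1.1 : Equiv.Perm GolayPt) • refSet v = refSet (refMap g v) := by
  rw [refMap, dif_neg hv]
  exact (exists_refSet_image g hv).choose_spec

theorem refMap_zero (g : stabF (famSet cTrio)) : refMap g 0 = 0 := by rw [refMap, dif_pos rfl]

theorem refMap_eq {g : stabF (famSet cTrio)} {v w : VV} (hv : v ≠ 0) (hw : w ≠ 0)
    (h : (g.1.1 : Equiv.Perm GolayPt) • refSet v = refSet w) : refMap g v = w :=
  refSet_inj (refMap_spec g hv).1 hw ((refMap_spec g hv).2.symm.trans h)

theorem refMap_one (v : VV) : refMap 1 v = v := by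
  by_cases hv : v = 0
  · rw [hv, refMap_zero]
  · exact refMap_eq hv hv (one_smul _ _)

theorem refMap_mul (g h : stabF (famSet cTrio)) (v : VV) :
    refMap (g * h) v = refMap g (refMap h v) := by
  by_cases hv : v = 0
  · rw [hv, refMap_zero, refMap_zero, refMap_zero]
  · obtain ⟨h1, h2⟩ := refMap_spec h hv
    obtain ⟨g1, g2⟩ := refMap_spec g h1
    refine refMap_eq hv g1 ?_
    show ((g.1.1 : Equiv.Perm GolayPt) * h.1.1) • refSet v = _
    rw [mul_smul, h2, g2]

theorem refMap_inv (g : stabF (famSet cTrio)) (v : VV) : refMap g⁻¹ (refMap g v) = v := by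
  rw [← refMap_mul, inv_mul_cancel, refMap_one]

theorem vec_add_self (u : VV) : u + u = 0 := funext fun i => CharTwo.add_self_eq_zero (u i)

theorem refMap_add (g : stabF (famSet cTrio)) (u v : VV) :
    refMap g (u + v) = refMap g u + refMap g v := by
  by_cases hu : u = 0
  · rw [hu, refMap_zero, zero_add, zero_add]
  by_cases hv : v = 0
  · rw [hv, refMap_zero, add_zero, add_zero]
  by_cases huv : u = v
  · rw [huv, vec_add_self, refMap_zero, vec_add_self]
  have hsum : ∀ {a b : VV}, a ≠ b → a + b ≠ 0 := fun {a b} hab h => hab (by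
    calc a = a + (b + b) := by rw [vec_add_self, add_zero]
      _ = b := by rw [← add_assoc, h, zero_add])
  obtain ⟨fu, hfu⟩ := refMap_spec g hu
  obtain ⟨fv, hfv⟩ := refMap_spec g hv
  obtain ⟨fw, hfw⟩ := refMap_spec g (hsum huv)
  have hne : refMap g u ≠ refMap g v := fun e => huv (by
    rw [← refMap_inv g u, e, refMap_inv])
  obtain ⟨a, ha, b, hb, hab⟩ : ∃ a ∈ refCode u, ∃ b ∈ refCode v, a &&& b ≠ 0 := by
    simpa using (refCode_add u v hu hv huv).2
  have h3 : a ^^^ b ∈ refCode (u + v) := by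
    have := List.all_eq_true.1 (List.all_eq_true.1 (refCode_add u v hu hv huv).1 a ha) b hb
    simpa [hab] using this
  obtain ⟨a', ha', ea⟩ : ∃ a' ∈ refCode (refMap g u),
      setOf24 a' = (g.1.1 : Equiv.Perm GolayPt) • setOf24 a := by
    rw [← mem_famSet, ← refSet, ← hfu]
    exact Finset.smul_mem_smul_finset (mem_famSet.2 ⟨a, ha, rfl⟩)
  obtain ⟨b', hb', eb⟩ : ∃ b' ∈ refCode (refMap g v),
      setOf24 b' = (g.1.1 : Equiv.Perm GolayPt) • setOf24 b := by
    rw [← mem_famSet, ← refSet, ← hfv]
    exact Finset.smul_mem_smul_finset (mem_famSet.2 ⟨b, hb, rfl⟩)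
  have hab' : a' &&& b' ≠ 0 := fun h => hab
    (and_eq_zero_of_disjoint (refCode_lt hu ha) (by
      have hd := disjoint_of_and h
      rw [ea, eb] at hd
      exact Finset.disjoint_left.2 fun x hx hy => Finset.disjoint_left.1 hd
        (Finset.smul_mem_smul_finset hx) (Finset.smul_mem_smul_finset hy)))
  have h4 : a' ^^^ b' ∈ refCode (refMap g u + refMap g v) := by
    have := List.all_eq_true.1 (List.all_eq_true.1 (refCode_add _ _ fu fv hne).1 a' ha') b' hb'
    simpa [hab'] using this
  refine refSet_eq fw (hsum hne) ?_ (mem_famSet.2 ⟨_, h4, rfl⟩)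
  rw [← hfw, setOf24_xor, ea, eb, ← smul_symmDiff', ← setOf24_xor]
  exact Finset.smul_mem_smul_finset (mem_famSet.2 ⟨_, h3, rfl⟩)

/-- The linear map on the refining sextets. -/
noncomputable def refLin : stabF (famSet cTrio) →* (VV ≃ₗ[ZMod 2] VV) where
  toFun g :=
    { toFun := refMap g
      invFun := refMap g⁻¹
      left_inv := refMap_inv g
      right_inv := fun v => by simpa using refMap_inv g⁻¹ v
      map_add' := refMap_add g
      map_smul' := fun c v => by
        rcases (by decide +kernel : ∀ c : ZMod 2, c = 0 ∨ c = 1) c with rfl | rfl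
        · simp [refMap_zero]
        · simp }
  map_one' := LinearEquiv.ext refMap_one
  map_mul' g h := LinearEquiv.ext (refMap_mul g h)

theorem refLin_eq_one {g : stabF (famSet cTrio)} :
    refLin g = 1 ↔ ∀ v : VV, v ≠ 0 → (g.1.1 : Equiv.Perm GolayPt) • refSet v = refSet v := by
  constructor
  · intro h v hv
    have e : refMap g v = v := LinearEquiv.congr_fun h v
    exact (refMap_spec g hv).2.trans (congrArg refSet e)
  · intro h
    refine LinearEquiv.ext fun v => ?_
    show refMap g v = v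
    by_cases hv : v = 0
    · rw [hv, refMap_zero]
    · exact refMap_eq hv hv (h v hv)

/-- Linear map and permutation of the octads. -/
noncomputable def trioHom :
    stabF (famSet cTrio) →* (VV ≃ₗ[ZMod 2] VV) × Equiv.Perm ↥(famSet cTrio) :=
  refLin.prod (famPerm (famSet cTrio))

theorem trioHom_sq : ∀ g ∈ trioHom.ker, g * g = 1 := by
  intro g hg
  obtain ⟨h1, h2⟩ := Prod.ext_iff.1 (MonoidHom.mem_ker.1 hg)
  have h1 : ∀ v : VV, v ≠ 0 → (g.1.1 : Equiv.Perm GolayPt) • refSet v = refSet v :=
    refLin_eq_one.1 h1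
  have h2 : ∀ o ∈ famSet cTrio, (g.1.1 : Equiv.Perm GolayPt) • o = o := famPerm_eq_one.1 h2
  set σ : Equiv.Perm GolayPt := g.1.1 with hσ
  refine Subtype.ext (Subtype.ext (Equiv.ext fun x => ?_))
  show σ (σ x) = x
  by_contra hne
  have hsep := List.all_eq_true.1 (List.all_eq_true.1 refCode_sep (idx x)
    (List.mem_range.2 (idx_lt x))) (idx (σ (σ x))) (List.mem_range.2 (idx_lt _))
  simp only [Bool.or_eq_true, beq_iff_eq] at hsep
  obtain ⟨l, hl, hM⟩ := List.any_eq_true.1
    (hsep.resolve_left fun e => hne (idx_injective e).symm)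
  obtain ⟨v, hv, rfl⟩ := refCode_surj hl
  obtain ⟨M, hM, hbits⟩ := List.any_eq_true.1 hM
  simp only [Bool.and_eq_true, Bool.not_eq_true'] at hbits
  have hmem : ∀ t ∈ refSet v, σ • t ∈ refSet v := fun t ht => by
    rw [← h1 v hv]; exact Finset.smul_mem_smul_finset ht
  have hMt : setOf24 M ∈ refSet v := mem_famSet.2 ⟨M, hM, rfl⟩
  obtain ⟨o, ho, hto⟩ := refSet_inside hv hMt
  have hsub : ∀ t : Finset GolayPt, t ⊆ o → σ • t ⊆ o := fun t ht => by
    rw [← h2 o ho]; exact Finset.smul_finset_subset_smul_finset ht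
  have three : ∀ a ∈ refSet v, ∀ b ∈ refSet v, ∀ c ∈ refSet v, a ⊆ o → b ⊆ o → c ⊆ o →
      a = b ∨ a = c ∨ b = c := by
    intro a ha b hb c hc sa sb sc
    obtain ⟨A, hA, rfl⟩ := mem_famSet.1 ha
    obtain ⟨B, hB, rfl⟩ := mem_famSet.1 hb
    obtain ⟨C, hC, rfl⟩ := mem_famSet.1 hc
    obtain ⟨O, hO, rfl⟩ := mem_famSet.1 ho
    have := List.all_eq_true.1 (List.all_eq_true.1 (List.all_eq_true.1 (List.all_eq_true.1
      (List.all_eq_true.1 refCode_two _ (refCode_mem hv)) O hO) A hA) B hB) C hC
    simp only [Bool.or_eq_true, Bool.not_eq_true', beq_iff_eq, beq_eq_false_iff_ne] at this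
    rcases this with ((((h | h) | h) | h) | h) | h
    · exact absurd ((setOf24_subset (refCode_lt hv hA)).1 sa) h
    · exact absurd ((setOf24_subset (refCode_lt hv hB)).1 sb) h
    · exact absurd ((setOf24_subset (refCode_lt hv hC)).1 sc) h
    · exact Or.inl (congrArg setOf24 h)
    · exact Or.inr (Or.inl (congrArg setOf24 h))
    · exact Or.inr (Or.inr (congrArg setOf24 h))
  have hfix : σ • σ • setOf24 M = setOf24 M := by
    rcases three _ hMt _ (hmem _ hMt) _ (hmem _ (hmem _ hMt)) hto (hsub _ hto)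
      (hsub _ (hsub _ hto)) with h | h | h
    · rw [← h, ← h]
    · exact h.symm
    · have := smul_left_cancel σ h
      rw [← this, ← this]
  have hx : σ (σ x) ∈ σ • σ • setOf24 M :=
    Finset.smul_mem_smul_finset (Finset.smul_mem_smul_finset (mem_setOf24.2 hbits.1))
  rw [hfix, mem_setOf24, hbits.2] at hx
  exact absurd hx (by simp)

theorem trioSwaps_ok : swapsOK cTrio trioSwaps = true := by decide +kernel

/-- Triples of images of a basis, each realised by a table fixing the three octads. -/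
def linOK (e : ℕ × ℕ × ℕ × ℕ) : Bool :=
  (cTrio.all fun o => push e.1 24 o == o) &&
    famCoding.same (famCoding.act e.1 (refCode (vecOf 1))) (refCode (vecOf e.2.1)) &&
    famCoding.same (famCoding.act e.1 (refCode (vecOf 2))) (refCode (vecOf e.2.2.1)) &&
    famCoding.same (famCoding.act e.1 (refCode (vecOf 4))) (refCode (vecOf e.2.2.2)) && isM24 e.1

theorem trioLinear_ok : trioLinear.all linOK = true := by decide +kernel

theorem trioLinear_complete : ∀ a b c : VV,
    (a == 0 || b == 0 || c == 0 || a == b || c == a || c == b || c == a + b ||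
      trioLinear.any fun e => e.2 == (vecNum a, vecNum b, vecNum c)) = true := by
  decide +kernel

theorem exists_linear (A : VV ≃ₗ[ZMod 2] VV) :
    ∃ k : stabF (famSet cTrio), famPerm _ k = 1 ∧ refLin k = A := by
  have ne : ∀ {u w : VV}, u ≠ w → A u ≠ A w := fun h e => h (A.injective e)
  have nz : ∀ {u : VV}, u ≠ 0 → A u ≠ 0 := fun h e => h (A.injective (e.trans (map_zero A).symm))
  obtain ⟨e, he, hab⟩ : ∃ e ∈ trioLinear,
      (e.2 == (vecNum (A (vecOf 1)), vecNum (A (vecOf 2)), vecNum (A (vecOf 4)))) = true := by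
    have h := trioLinear_complete (A (vecOf 1)) (A (vecOf 2)) (A (vecOf 4))
    simp only [Bool.or_eq_true, beq_iff_eq, List.any_eq_true, ← map_add] at h
    rcases h with ((((((h | h) | h) | h) | h) | h) | h) | h
    iterate 3 exact absurd h (nz (by decide +kernel))
    iterate 4 exact absurd h (ne (by decide +kernel))
    simpa only [beq_iff_eq] using h
  have hok := List.all_eq_true.1 trioLinear_ok e he
  rw [linOK, Bool.and_eq_true, Bool.and_eq_true, Bool.and_eq_true, Bool.and_eq_true] at hok
  obtain ⟨⟨⟨⟨hfix, s1⟩, s2⟩, s4⟩, hM⟩ := hok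
  simp only [List.all_eq_true, beq_iff_eq] at hfix hab
  obtain ⟨σ, hσ, r⟩ := inGroup_M24 hM
  have hfix' : ∀ o ∈ famSet cTrio, σ • o = o := by
    intro o ho
    obtain ⟨O, hO, rfl⟩ := mem_famSet.1 ho
    rw [smul_setOf24 r, hfix O hO]
  have hF : σ • famSet cTrio = famSet cTrio := by
    refine Finset.eq_of_subset_of_card_le ?_ (Finset.card_smul_finset σ _).ge
    intro c hc
    obtain ⟨c, hc', rfl⟩ := Finset.mem_smul_finset.1 hc
    rw [hfix' c hc']
    exact hc'
  let k : stabF (famSet cTrio) := ⟨⟨σ, hσ⟩, hF⟩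
  refine ⟨k, famPerm_eq_one.2 hfix', ?_⟩
  have hvec : ∀ v : VV, vecOf (vecNum v) = v := by decide +kernel
  have agree : ∀ {u w : VV} {m : ℕ}, u ≠ 0 → w ≠ 0 → m = vecNum w →
      famCoding.same (famCoding.act e.1 (refCode u)) (refCode (vecOf m)) = true →
      refMap k u = w := by
    intro u w m hu hw hm h
    refine refMap_eq hu hw ((famCoding.dec_act r (refCode u)).symm.trans ?_)
    rw [show refSet w = famSet (refCode (vecOf m)) by rw [hm, hvec]; rfl]
    exact famCoding.dec_same h
  simp only [Prod.ext_iff] at hab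
  obtain ⟨e1, e2, e4⟩ := hab
  have a1 := agree (u := vecOf 1) (by decide +kernel) (nz (u := vecOf 1) (by decide +kernel)) e1 s1
  have a2 := agree (u := vecOf 2) (by decide +kernel) (nz (u := vecOf 2) (by decide +kernel)) e2 s2
  have a4 := agree (u := vecOf 4) (by decide +kernel) (nz (u := vecOf 4) (by decide +kernel)) e4 s4
  have basis : ∀ v : VV, v = v 0 • vecOf 1 + v 1 • vecOf 2 + v 2 • vecOf 4 := by decide +kernel
  refine LinearEquiv.ext fun v => ?_
  rw [basis v]
  simp only [map_add, map_smul]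
  rw [show refLin k (vecOf 1) = refMap k (vecOf 1) from rfl, a1,
    show refLin k (vecOf 2) = refMap k (vecOf 2) from rfl, a2,
    show refLin k (vecOf 4) = refMap k (vecOf 4) from rfl, a4]

theorem trioHom_surjective : Function.Surjective trioHom := by
  rintro ⟨A, e⟩
  obtain ⟨s, hs⟩ := famPerm_surjective (swapsIn_of_ok trioSwaps_ok) e
  obtain ⟨k, hk1, hk2⟩ := exists_linear ((refLin s)⁻¹ * A)
  refine ⟨s * k, ?_⟩
  show (refLin (s * k), famPerm _ (s * k)) = (A, e)
  rw [map_mul, map_mul, hk1, hk2, hs, mul_inv_cancel_left, mul_one]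

theorem card_stabF_trio {T : Finset (Finset GolayPt)} (hT : T ∈ trios) :
    Nat.card (stabF T) = 64512 := by
  have horb : (MulAction.orbit ↥M24 T).ncard = 3795 := by
    rw [MulAction.orbit_eq_iff.2 (moves_iff_mem_orbit.1 (exists_trio_map hT)), trios_orbit]
    exact Cfsg.Agent.S1557.result.2
  have := card_stabilizer_of_orbit horb
  rw [Nat.card_congr (stabilizerInfEquiv M24 T).toEquiv]
  omega

theorem card_linear : Nat.card (VV ≃ₗ[ZMod 2] VV) = 168 := by
  rw [← Nat.card_congr (Matrix.GeneralLinearGroup.toLin.trans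
    (LinearMap.GeneralLinearGroup.generalLinearEquiv (ZMod 2) VV) :
      GL (Fin 3) (ZMod 2) ≃* (VV ≃ₗ[ZMod 2] VV)).toEquiv, Matrix.card_GL_field,
    Fin.prod_univ_three, ZMod.card]
  rfl

theorem card_trioHom_ker : Nat.card trioHom.ker = 64 := by
  have h := Subgroup.card_mul_index trioHom.ker
  rw [Subgroup.index_ker, MonoidHom.range_eq_top.2 trioHom_surjective, Subgroup.card_top,
    Nat.card_prod, card_linear, Nat.card_perm, Nat.card_eq_finsetCard, cTrio_mem.1,
    card_stabF_trio cTrio_mem] at h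
  exact Nat.eq_of_mul_eq_mul_right (by norm_num [Nat.factorial] : 0 < 168 * Nat.factorial 3)
    (h.trans (by norm_num [Nat.factorial] : 64512 = 64 * (168 * Nat.factorial 3)))

/-- The quotient, as printed. -/
theorem exists_trio_structure {T : Finset (Finset GolayPt)} (hT : T ∈ trios) :
    ∃ (N : Subgroup (stabF T)) (_ : N.Normal), Nat.card N = 64 ∧ (∀ x ∈ N, x * x = 1) ∧
      Nonempty (stabF T ⧸ N ≃* GL (Fin 3) (ZMod 2) × Equiv.Perm (Fin 3)) := by
  obtain ⟨σ, hσ, rfl⟩ := exists_trio_map hT
  obtain ⟨N, hN, hc, h2, ⟨ψ⟩⟩ :=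
    exists_normal_transport (conjStab (⟨σ, hσ⟩ : ↥M24) (famSet cTrio)) trioHom_sq
  refine ⟨N, hN, hc.trans card_trioHom_ker, h2, ⟨ψ.symm.trans ?_⟩⟩
  refine (QuotientGroup.quotientKerEquivOfSurjective trioHom trioHom_surjective).trans ?_
  exact MulEquiv.prodCongr (Matrix.GeneralLinearGroup.toLin.trans
      (LinearMap.GeneralLinearGroup.generalLinearEquiv (ZMod 2) VV)).symm
    ((famSet cTrio).equivFinOfCardEq cTrio_mem.1).permCongrHom

theorem swapsIn_trio {T : Finset (Finset GolayPt)} (hT : T ∈ trios) : SwapsIn T := by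
  obtain ⟨σ, hσ, rfl⟩ := exists_trio_map hT
  exact (swapsIn_of_ok trioSwaps_ok).smul hσ

end CfsgLib.GolayOrbits
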